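import Cfsg.Agent.Lib.CentreFreeThree.Basic
import Cfsg.Agent.S2202
import Cfsg.Agent.S0205

/-!
# Trivial centre and minimal centralisers of all 2-elements: solvable or `PSL₂(2^a)` (owner: helper33)
-/

set_option autoImplicit false
set_option linter.style.haveILetI false
set_option linter.unusedSectionVars false

open Subgroup

namespace Cfsg.Agent.CentreFreeThree

open Cfsg.Agent.ClassGraph (sz)
open Cfsg.Agent.ThreeSizes (IsElt mem_cent self_mem mem_cent_symm isElt_of_mem)

variable {G : Type*} [Group G] [Finite G]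

local notation "cent" x:max => Subgroup.centralizer ({x} : Set _)

theorem exists_involution_pow {u : G} (hu : IsElt 2 u) (hu1 : u ≠ 1) :
    ∃ i ∈ zpowers u, orderOf i = 2 := by
  obtain ⟨k, hk⟩ := hu
  have hk0 : k ≠ 0 := by rintro rfl; exact hu1 (orderOf_eq_one_iff.1 (by simpa using hk))
  refine ⟨u ^ 2 ^ (k - 1), pow_mem (mem_zpowers u) _, ?_⟩
  rw [orderOf_pow_of_dvd (pow_ne_zero _ two_ne_zero) (hk ▸ pow_dvd_pow 2 (Nat.sub_le k 1)), hk,
    Nat.pow_div (Nat.sub_le k 1) two_pos, Nat.sub_sub_self (Nat.one_le_iff_ne_zero.2 hk0), pow_one]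

theorem sylow_comm_of_minimal
    (hmin : ∀ u : G, IsElt 2 u → u ≠ 1 → ∀ w, cent w ≤ cent u → cent w = cent u) (S : Sylow 2 G)
    {u v : G} (hu : u ∈ (S : Subgroup G)) (hv : v ∈ (S : Subgroup G)) : Commute u v := by
  haveI := Fact.mk Nat.prime_two
  have hS : ∀ {x : G}, x ∈ (S : Subgroup G) → IsElt 2 x := fun hx => isElt_of_mem S.2 hx
  -- a power has the same centraliser
  have hpow : ∀ {x i : G}, x ∈ (S : Subgroup G) → i ∈ zpowers x → i ≠ 1 → cent x = cent i :=
    fun hx hi hi1 => hmin _ (hS ((zpowers_le.2 hx) hi)) hi1 _ (ThreeSizes.cent_le_of_mem_zpowers hi)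
  have hinv : ∀ {i j : G}, i ∈ (S : Subgroup G) → j ∈ (S : Subgroup G) → orderOf i = 2 →
      orderOf j = 2 → Commute i j := by
    intro i j hi hj hio hjo
    have hii : i * i = 1 := by rw [← pow_two, ← hio, pow_orderOf_eq_one]
    have hjj : j * j = 1 := by rw [← pow_two, ← hjo, pow_orderOf_eq_one]
    have hii' : i⁻¹ = i := inv_eq_of_mul_eq_one_right hii
    have hjj' : j⁻¹ = j := inv_eq_of_mul_eq_one_right hjj
    by_contra hc
    have hw1 : i * j ≠ 1 := fun e => hc (by
      rw [mul_eq_one_iff_eq_inv.1 e, hjj'])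
    obtain ⟨z, hz, hzo⟩ := exists_involution_pow (hS (mul_mem hi hj)) hw1
    have hwi : i * (i * j) * i⁻¹ = (i * j)⁻¹ := by
      rw [mul_inv_rev, hjj', hii', ← mul_assoc, hii, one_mul]
    have hzi : i * z * i⁻¹ = z⁻¹ := by
      obtain ⟨k, rfl⟩ := mem_zpowers_iff.1 hz
      rw [← conj_zpow, hwi, inv_zpow]
    have hz1 : z ≠ 1 := fun e => by rw [e, orderOf_one] at hzo; exact absurd hzo (by decide)
    have hic : i ∈ cent z := by
      refine mem_cent.2 (mul_inv_eq_iff_eq_mul.1 (hzi.trans ?_))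
      exact inv_eq_of_mul_eq_one_right (by rw [← pow_two, ← hzo, pow_orderOf_eq_one])
    rw [← hpow (mul_mem hi hj) hz hz1] at hic
    refine hc ?_
    have h1 : Commute i (i * j) := mem_cent.1 hic
    show i * j = j * i
    calc i * j = i * (i * j) * i⁻¹ := by rw [h1.eq, mul_inv_cancel_right]
      _ = j * i := by rw [hwi, mul_inv_rev, hjj', hii']
  rcases eq_or_ne u 1 with rfl | hu1
  · exact Commute.one_left v
  rcases eq_or_ne v 1 with rfl | hv1
  · exact Commute.one_right u
  obtain ⟨i, hi, hio⟩ := exists_involution_pow (hS hu) hu1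
  obtain ⟨j, hj, hjo⟩ := exists_involution_pow (hS hv) hv1
  have hiS := (zpowers_le.2 hu) hi
  have hjS := (zpowers_le.2 hv) hj
  have hi1 : i ≠ 1 := fun e => by rw [e, orderOf_one] at hio; exact absurd hio (by decide)
  have hj1 : j ≠ 1 := fun e => by rw [e, orderOf_one] at hjo; exact absurd hjo (by decide)
  have h1 : i ∈ cent v := by rw [hpow hv hj hj1]; exact mem_cent.2 (hinv hiS hjS hio hjo).eq
  have h2 : v ∈ cent u := by rw [hpow hu hi hi1]; exact mem_cent_symm h1
  exact (mem_cent.1 h2 : Commute v u).symm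

theorem cent_involution_comm
    (hmin : ∀ u : G, IsElt 2 u → u ≠ 1 → ∀ w, cent w ≤ cent u → cent w = cent u) {t : G}
    (ht : orderOf t = 2) : IsMulCommutative (cent t) := by
  have h2 := Nat.prime_two
  haveI := Fact.mk h2
  have ht2 : IsElt 2 t := ⟨1, by rw [ht, pow_one]⟩
  have ht1 : t ≠ 1 := fun e => by rw [e, orderOf_one] at ht; exact absurd ht (by decide)
  -- elements of odd order are central
  have hodd : ∀ v ∈ cent t, ¬ 2 ∣ orderOf v → cent t ≤ cent v := by
    intro v hv hvo
    have hcm : cent (t * v) = cent t ⊓ cent v :=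
      ThreeSizes.cent_mul (mem_cent.1 hv).symm (ht2.coprime_order h2 hvo)
    exact inf_eq_left.1 (hcm.symm.trans (hmin t ht2 ht1 _ (hcm.le.trans inf_le_left)))
  obtain ⟨T⟩ : Nonempty (Sylow 2 (cent t)) := inferInstance
  have hT : ∀ x y : cent t, x ∈ (T : Subgroup (cent t)) → y ∈ (T : Subgroup (cent t)) → Commute x y := by
    intro x y hx hy
    obtain ⟨S, hS⟩ := (T.2.map (cent t).subtype).exists_le_sylow
    exact Subtype.ext (sylow_comm_of_minimal hmin S (hS ⟨x, hx, rfl⟩) (hS ⟨y, hy, rfl⟩)).eq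
  have hcenter : ∀ x : cent t, ¬ 2 ∣ orderOf x → x ∈ center (cent t) := fun x hx =>
    mem_center_iff.2 fun y => Subtype.ext (mem_cent.1 (hodd _ x.2 (by rwa [Subgroup.orderOf_coe]) y.2))
  have htop : (T : Subgroup (cent t)) ⊔ center (cent t) = ⊤ := by
    rw [← index_eq_one]
    refine Nat.eq_one_iff_not_exists_prime_dvd.2 fun r hr hd => ?_
    haveI := Fact.mk hr
    rcases eq_or_ne r 2 with rfl | hr2
    · exact T.not_dvd_index (hd.trans (index_dvd_of_le le_sup_left))
    obtain ⟨P⟩ : Nonempty (Sylow r (cent t)) := inferInstance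
    exact P.not_dvd_index (hd.trans (index_dvd_of_le fun x hx => mem_sup_right (hcenter x
      ((isElt_of_mem P.2 hx).not_dvd hr h2 hr2))))
  refine ⟨⟨fun x y => ?_⟩⟩
  obtain ⟨x1, hx1, x2, hx2, rfl⟩ := mem_sup_of_normal_right.1 (htop.ge (mem_top x))
  obtain ⟨y1, hy1, y2, hy2, rfl⟩ := mem_sup_of_normal_right.1 (htop.ge (mem_top y))
  have c1 : Commute (x1 * x2) y2 := mem_center_iff.1 hy2 _
  have c2 : Commute x2 y1 := (show Commute y1 x2 from mem_center_iff.1 hx2 y1).symm
  exact (((hT x1 y1 hx1 hy1).mul_left c2).mul_right c1).eq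

theorem exists_psl_equiv {G : Type*} [Group G] {F : Type} [Field F] [Fintype F] [CharP F 2]
    (e : G ≃* Matrix.SpecialLinearGroup (Fin 2) F) :
    ∃ a : ℕ, 0 < a ∧ Nonempty (G ≃* Matrix.ProjectiveSpecialLinearGroup (Fin 2) (GaloisField 2 a)) := by
  obtain ⟨n, -, hn⟩ := FiniteField.card F 2
  haveI : Fintype (GaloisField 2 n) := Fintype.ofFinite _
  obtain σ : F ≃+* GaloisField 2 n := FiniteField.ringEquivOfCardEq (by
    rw [hn, Fintype.card_eq_nat_card, GaloisField.card 2 n n.2.ne'])
  let f : Matrix.SpecialLinearGroup (Fin 2) F ≃* Matrix.SpecialLinearGroup (Fin 2) (GaloisField 2 n) :=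
    { toFun := Matrix.SpecialLinearGroup.map σ.toRingHom
      invFun := Matrix.SpecialLinearGroup.map σ.symm.toRingHom
      left_inv := fun x => by ext i j; simp
      right_inv := fun x => by ext i j; simp
      map_mul' := map_mul _ }
  have hcen : Subgroup.center (Matrix.SpecialLinearGroup (Fin 2) (GaloisField 2 n)) = ⊥ := by
    rw [Subgroup.eq_bot_iff_forall]
    intro w hw
    obtain ⟨r, hr, he⟩ := Matrix.SpecialLinearGroup.mem_center_iff.1 hw
    have hr1 : r = 1 := by
      have h0 : (r - 1) * (r - 1) = 0 := by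
        linear_combination (by simpa using hr : r ^ 2 = 1) + (1 - r) * CharTwo.two_eq_zero (R := GaloisField 2 n)
      exact sub_eq_zero.1 (mul_self_eq_zero.1 h0)
    exact Subtype.ext (by rw [← he, hr1]; simp)
  refine ⟨n, n.2, ⟨(e.trans f).trans (MulEquiv.ofBijective (QuotientGroup.mk' _)
    ⟨(MonoidHom.ker_eq_bot_iff _).1 (by rw [QuotientGroup.ker_mk', hcen]),
      QuotientGroup.mk'_surjective _⟩)⟩⟩

theorem solvable_or_psl_of_minimal (hZ : center G = ⊥)
    (hmin : ∀ u : G, IsElt 2 u → u ≠ 1 → ∀ w, cent w ≤ cent u → cent w = cent u) :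
    Group.IsSolvable G ∨
      ∃ a : ℕ, 0 < a ∧ Nonempty (G ≃* Matrix.ProjectiveSpecialLinearGroup (Fin 2) (GaloisField 2 a)) := by
  haveI := Fact.mk Nat.prime_two
  rcases Nat.even_or_odd (Nat.card G) with heven | hodd
  swap
  · exact Or.inl (S0205.result hodd)
  obtain ⟨S⟩ : Nonempty (Sylow 2 G) := inferInstance
  have hSsol : Group.IsSolvable (S : Subgroup G) := Solvable.isSolvable_of_isPGroup S.2
  rcases S2202.result heven (fun t ht => cent_involution_comm hmin ht) with
    hcyc | hnorm | ⟨F, iF, iFt, A, iA, iAf, hchar, -, ⟨e⟩⟩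
  · left
    have hmin2 : (Nat.card G).minFac = 2 := (Nat.minFac_eq_two_iff _).2 (even_iff_two_dvd.1 heven)
    have hcomp := IsCyclic.isComplement' hmin2 (hcyc S)
    set K := (MonoidHom.transferSylow S ((hcyc S).normalizer_le_centralizer hmin2)).ker
    refine solvable_of_sup (H := (S : Subgroup G)) (N := K) hSsol (S0205.result ?_)
      (by rw [sup_comm]; exact hcomp.sup_eq_top)
    rw [← Nat.not_even_iff_odd, even_iff_two_dvd]
    exact MonoidHom.not_dvd_card_ker_transferSylow S ((hcyc S).normalizer_le_centralizer hmin2)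
  · left
    haveI := hnorm S
    refine solvable_of_normal hSsol (S0205.result ?_)
    rw [← Subgroup.index_eq_card, ← Nat.not_even_iff_odd, even_iff_two_dvd]
    exact S.not_dvd_index
  · right
    letI := iF; letI := iFt; letI := iA; haveI := hchar
    have hA : ∀ x : A, x = 1 := fun x => by
      have h1 : e.symm (1, x) ∈ center G := mem_center_iff.2 fun g => e.injective (by
        rw [map_mul, map_mul, e.apply_symm_apply]
        refine Prod.ext ?_ (mul_comm _ _)
        simp)
      rw [hZ, mem_bot, MulEquiv.map_eq_one_iff] at h1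
      exact congrArg Prod.snd h1
    refine exists_psl_equiv (F := F) (e.trans
      { toFun := Prod.fst
        invFun := fun x => (x, 1)
        left_inv := fun x => Prod.ext rfl (hA x.2).symm
        right_inv := fun _ => rfl
        map_mul' := fun _ _ => rfl })

end Cfsg.Agent.CentreFreeThree
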