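import Cfsg.Agent.Lib.CentreFreeThree.Rad
import Cfsg.Agent.Lib.ThreeSizes.Hyp
import Cfsg.Agent.Lib.Solvable.Maximal

/-!
# Trivial centre and three class sizes: common tools (owner: helper33)

* `Sizes G a b c`: the sizes are `a, b, c` with `a` properly dividing `c`, `a, b` coprime
* `conj_commute_of_coprime`, `sz_mul_le`, `conj_commute_self`: elements of coprime class sizes
-/

set_option autoImplicit false
set_option linter.style.haveILetI false
set_option linter.unusedSectionVars false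

open Subgroup
open scoped Pointwise

namespace Cfsg.Agent.CentreFreeThree

open Cfsg.Agent.ClassGraph (sz cls)
open Cfsg.Agent.ThreeSizes (IsElt mem_cent self_mem mem_cent_symm isElt_of_mem)

variable {G : Type*} [Group G] [Finite G]

local notation "cent" x:max => Subgroup.centralizer ({x} : Set _)

theorem sz_mul_card (x : G) : sz x * Nat.card (cent x) = Nat.card G := (cent x).index_mul_card

theorem sz_dvd_card (x : G) : sz x ∣ Nat.card G := Dvd.intro _ (sz_mul_card x)

theorem eq_one_of_center (hZ : center G = ⊥) {g : G} (h : sz g = 1) : g = 1 := by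
  have h1 := TwoLargest.sz_eq_one_iff.1 h
  rwa [hZ, mem_bot] at h1

theorem sz_one : sz (1 : G) = 1 := TwoLargest.sz_eq_one_iff.2 (one_mem _)

theorem ne_one_of_sz {g : G} (h : 1 < sz g) : g ≠ 1 := by
  rintro rfl
  rw [sz_one] at h
  exact lt_irrefl _ h

theorem sz_dvd_of_le {a b : G} (h : cent a ≤ cent b) : sz b ∣ sz a := index_dvd_of_le h

theorem cent_eq_of_sz {a b : G} (h : cent a ≤ cent b) (hs : sz a = sz b) : cent a = cent b :=
  TwoLargest.cent_eq_of_le h hs.le

theorem le_cent_iff {H : Subgroup G} {v : G} : H ≤ cent v ↔ ∀ h ∈ H, Commute h v :=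
  ⟨fun h g hg => mem_cent.1 (h hg), fun h g hg => mem_cent.2 (h g hg).eq⟩

theorem isElt_of_dvd_pow {q : ℕ} (hq : q.Prime) {x : G} {k : ℕ} (h : orderOf x ∣ q ^ k) : IsElt q x := by
  obtain ⟨i, -, hi⟩ := (Nat.dvd_prime_pow hq).1 h
  exact ⟨i, hi⟩

/-! ### Sylow subgroups -/

theorem sylow_le_of_index {p : ℕ} [Fact p.Prime] {H : Subgroup G} (h : ¬ p ∣ H.index) :
    ∃ P : Sylow p G, (P : Subgroup G) ≤ H := by
  obtain ⟨U, hUH, hUp, hUc⟩ := ThreeSizes.exists_le_card_cp p H
  rw [ThreeSizes.cp_eq_top_iff.2 h, ThreeSizes.cp, Subgroup.card_top] at hUc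
  exact ⟨Sylow.ofCard U hUc, hUH⟩

theorem exists_conj_mem_sylow {p : ℕ} [Fact p.Prime] (P : Sylow p G) {x : G} (hx : IsElt p x) :
    ∃ g : G, g * x * g⁻¹ ∈ (P : Subgroup G) := by
  obtain ⟨Q, hQ⟩ := (ThreeSizes.isPGroup_zpowers hx).exists_le_sylow
  obtain ⟨g, rfl⟩ := MulAction.exists_smul_eq G Q P
  refine ⟨g, ?_⟩
  rw [Sylow.coe_subgroup_smul, Subgroup.mem_pointwise_smul_iff_inv_smul_mem, MulAut.smul_def,
    MulAut.conj_inv_apply]
  simpa [mul_assoc] using hQ (mem_zpowers x)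

theorem exists_conj_mem_of_index {p : ℕ} (hp : p.Prime) {H : Subgroup G} (h : ¬ p ∣ H.index) {x : G}
    (hx : IsElt p x) : ∃ g : G, g * x * g⁻¹ ∈ H := by
  haveI := Fact.mk hp
  obtain ⟨P, hP⟩ := sylow_le_of_index h
  obtain ⟨g, hg⟩ := exists_conj_mem_sylow P hx
  exact ⟨g, hP hg⟩

/-- every prime divisor of `|G|` divides some class size -/
theorem exists_dvd_sz (hZ : center G = ⊥) {p : ℕ} (hp : p.Prime) (hd : p ∣ Nat.card G) :
    ∃ x : G, p ∣ sz x := by
  by_contra! hno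
  haveI := Fact.mk hp
  obtain ⟨P⟩ : Nonempty (Sylow p G) := inferInstance
  have htop : centralizer ((P : Subgroup G) : Set G) = ⊤ := by
    refine ClassIndex.eq_top_of_conj_cover fun g => ?_
    obtain ⟨Q, hQ⟩ := sylow_le_of_index (hno g)
    obtain ⟨c, rfl⟩ := MulAction.exists_smul_eq G P Q
    refine ⟨c, mem_centralizer_iff.2 fun s hs => ?_⟩
    have h1 : c * s * c⁻¹ ∈ cent g := hQ (by
      rw [Sylow.coe_subgroup_smul, Subgroup.mem_pointwise_smul_iff_inv_smul_mem, MulAut.smul_def,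
        MulAut.conj_inv_apply]
      simpa [mul_assoc] using SetLike.mem_coe.1 hs)
    calc s * (c⁻¹ * g * c) = c⁻¹ * (c * s * c⁻¹ * g) * c := by group
      _ = c⁻¹ * (g * (c * s * c⁻¹)) * c := by rw [mem_cent.1 h1]
      _ = _ := by group
  have hP : (P : Subgroup G) ≤ center G := fun s hs => mem_center_iff.2 fun g =>
    ((mem_centralizer_iff.1 (htop ▸ mem_top g)) s hs).symm
  rw [hZ, le_bot_iff] at hP
  exact P.ne_bot_of_dvd_card hd hP

/-- a central element of a Sylow subgroup -/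
theorem exists_sylow_central {p : ℕ} [Fact p.Prime] (P : Sylow p G) (hd : p ∣ Nat.card G) :
    ∃ z ∈ (P : Subgroup G), z ≠ 1 ∧ (P : Subgroup G) ≤ cent z ∧ ¬ p ∣ sz z := by
  haveI : Nontrivial (P : Subgroup G) := (Subgroup.nontrivial_iff_ne_bot _).2 (P.ne_bot_of_dvd_card hd)
  haveI := P.2.center_nontrivial
  obtain ⟨z, hz⟩ := exists_ne (1 : center (P : Subgroup G))
  have hle : (P : Subgroup G) ≤ cent ((z : (P : Subgroup G)) : G) := fun g hg =>
    mem_cent.2 (congrArg Subtype.val (mem_center_iff.1 z.2 ⟨g, hg⟩))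
  refine ⟨_, (z : (P : Subgroup G)).2, fun h => hz (Subtype.ext (Subtype.ext h)), hle, fun h => ?_⟩
  exact P.not_dvd_index (h.trans (index_dvd_of_le hle))

/-! ### Elements of coprime class sizes -/

theorem conj_commute_of_coprime {g h : G} (hco : (sz g).Coprime (sz h)) (hc : Commute g h) (a b : G) :
    Commute (a * g * a⁻¹) (b * h * b⁻¹) := by
  obtain ⟨k, hk, f, hf, hkf⟩ := Solvable.exists_mul_of_coprime_index
    (H := cent h) (K := cent g) hco.symm (a⁻¹ * b)
  have e1 : k * g * k⁻¹ = g := by rw [mem_cent.1 hk, mul_inv_cancel_right]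
  have e2 : f * h * f⁻¹ = h := by rw [mem_cent.1 hf, mul_inv_cancel_right]
  have h1 : a * g * a⁻¹ = a * k * g * (a * k)⁻¹ := by
    calc a * g * a⁻¹ = a * (k * g * k⁻¹) * a⁻¹ := by rw [e1]
      _ = _ := by group
  have h2 : b * h * b⁻¹ = a * k * h * (a * k)⁻¹ := by
    have : b = a * k * f := by rw [mul_assoc, ← hkf, mul_inv_cancel_left]
    calc b * h * b⁻¹ = a * k * (f * h * f⁻¹) * (a * k)⁻¹ := by rw [this]; group
      _ = _ := by rw [e2]
  rw [h1, h2]
  exact hc.map (MulAut.conj (a * k)).toMonoidHom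

theorem sz_mul_le (g h : G) : sz (g * h) ≤ sz g * sz h := by
  rw [← ClassGraph.ncard_cls, ← ClassGraph.ncard_cls, ← ClassGraph.ncard_cls, ← Set.ncard_prod]
  refine (Set.ncard_le_ncard ?_ (Set.toFinite _)).trans
    (Set.ncard_image_le (f := fun p : G × G => p.1 * p.2) (Set.toFinite _))
  rintro - ⟨a, rfl⟩
  exact ⟨(a * g * a⁻¹, a * h * a⁻¹), ⟨⟨a, rfl⟩, ⟨a, rfl⟩⟩, by group⟩

/-- if the product class is no larger than that of `h`, all conjugates of `g` commute -/
theorem conj_commute_self {g h : G} (hco : (sz g).Coprime (sz h)) (hle : sz (g * h) ≤ sz h) (c : G) :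
    Commute g (c * g * c⁻¹) := by
  have h1 := ClassGraph.stab_le_centralizer hco (TwoLargest.trans_mem hco hle c)
  have h2 : Commute g (g⁻¹ * (c * g * c⁻¹)) := (mem_cent.1 h1).symm
  simpa [mul_assoc] using (Commute.refl g).mul_right h2

/-! ### The three sizes -/

/-- The class sizes are `1, a, b, c`, where `a` properly divides `c` and is prime to `b`. -/
structure Sizes (G : Type*) [Group G] (a b c : ℕ) : Prop where
  center : Subgroup.center G = ⊥
  ha : 1 < a
  hb : 1 < b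
  hac : a ∣ c
  hlt : a < c
  cop : a.Coprime b
  size : ∀ g : G, g ≠ 1 → sz g = a ∨ sz g = b ∨ sz g = c
  exA : ∃ x : G, sz x = a
  exB : ∃ y : G, sz y = b
  exC : ∃ w : G, sz w = c

namespace Sizes

variable {a b c : ℕ}

theorem hc (h : Sizes G a b c) : 1 < c := h.ha.trans h.hlt

theorem a_not_dvd_b (h : Sizes G a b c) : ¬ a ∣ b := fun hd => by
  have := Nat.eq_one_of_dvd_coprimes h.cop dvd_rfl hd
  have := h.ha; omega

theorem b_not_dvd_a (h : Sizes G a b c) : ¬ b ∣ a := fun hd => by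
  have := Nat.eq_one_of_dvd_coprimes h.cop hd dvd_rfl
  have := h.hb; omega

theorem c_not_dvd_a (h : Sizes G a b c) : ¬ c ∣ a := fun hd => by
  have := Nat.le_of_dvd (by have := h.ha; omega) hd
  have := h.hlt; omega

theorem c_not_dvd_b (h : Sizes G a b c) : ¬ c ∣ b := fun hd => h.a_not_dvd_b (h.hac.trans hd)

theorem a_ne_b (h : Sizes G a b c) : a ≠ b := fun e => h.a_not_dvd_b (e ▸ dvd_rfl)

theorem b_ne_c (h : Sizes G a b c) : b ≠ c := fun e => h.c_not_dvd_b (e ▸ dvd_rfl)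

theorem one_lt (h : Sizes G a b c) {g : G} (hg : g ≠ 1) : 1 < sz g := by
  rcases h.size g hg with e | e | e <;> rw [e]
  exacts [h.ha, h.hb, h.hc]

theorem mult_a (h : Sizes G a b c) {g : G} (hd : a ∣ sz g) : sz g = a ∨ sz g = c := by
  rcases eq_or_ne g 1 with rfl | hg
  · rw [sz_one, Nat.dvd_one] at hd
    have := h.ha; omega
  rcases h.size g hg with e | e | e
  · exact Or.inl e
  · exact absurd (e ▸ hd) h.a_not_dvd_b
  · exact Or.inr e

theorem eq_a_of_dvd (h : Sizes G a b c) {g : G} (hg : g ≠ 1) (hd : sz g ∣ a) : sz g = a := by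
  rcases h.size g hg with e | e | e <;> rw [e] at hd ⊢
  exacts [absurd hd h.b_not_dvd_a, absurd hd h.c_not_dvd_a]

theorem eq_b_of_dvd (h : Sizes G a b c) {g : G} (hg : g ≠ 1) (hd : sz g ∣ b) : sz g = b := by
  rcases h.size g hg with e | e | e <;> rw [e] at hd ⊢
  exacts [absurd hd h.a_not_dvd_b, absurd hd h.c_not_dvd_b]

theorem eq_c_of_dvd (h : Sizes G a b c) {g : G} (hd : c ∣ sz g) : sz g = c := by
  rcases h.mult_a (h.hac.trans hd) with e | e
  · exact absurd (e ▸ hd) h.c_not_dvd_a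
  · exact e

theorem symm (h : Sizes G a b c) (hbc : b ∣ c) : Sizes G b a c where
  center := h.center
  ha := h.hb
  hb := h.ha
  hac := hbc
  hlt := lt_of_le_of_ne (Nat.le_of_dvd (by have := h.hc; omega) hbc) h.b_ne_c
  cop := h.cop.symm
  size g hg := by rcases h.size g hg with e | e | e <;> simp [e]
  exA := h.exB
  exB := h.exA
  exC := h.exC

theorem dvd_card_a (h : Sizes G a b c) {p : ℕ} (hp : p ∣ a) : p ∣ Nat.card G := by
  obtain ⟨x, hx⟩ := h.exA
  exact hp.trans (hx ▸ sz_dvd_card x)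

theorem prime_cases (h : Sizes G a b c) {p : ℕ} (hp : p.Prime) (hd : p ∣ Nat.card G) :
    p ∣ b ∨ p ∣ c := by
  obtain ⟨x, hx⟩ := exists_dvd_sz h.center hp hd
  rcases eq_or_ne x 1 with rfl | hx1
  · rw [sz_one, Nat.dvd_one] at hx
    exact absurd hx hp.ne_one
  rcases h.size x hx1 with e | e | e <;> rw [e] at hx
  exacts [Or.inr (hx.trans h.hac), Or.inl hx, Or.inr hx]

/-- for a prime divisor of `a`, Sylow centres have elements of size `b` -/
theorem central_b (h : Sizes G a b c) {p : ℕ} [hp : Fact p.Prime] (hpa : p ∣ a) (P : Sylow p G) :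
    ∃ z ∈ (P : Subgroup G), z ≠ 1 ∧ (P : Subgroup G) ≤ cent z ∧ sz z = b := by
  obtain ⟨z, hz, hz1, hle, hnd⟩ := exists_sylow_central P (h.dvd_card_a hpa)
  refine ⟨z, hz, hz1, hle, ?_⟩
  rcases h.size z hz1 with e | e | e
  · exact absurd (e.symm ▸ hpa) hnd
  · exact e
  · exact absurd (e.symm ▸ hpa.trans h.hac) hnd

theorem exists_primary_a (h : Sizes G a b c) : ∃ q : ℕ, q.Prime ∧ ∃ x : G, IsElt q x ∧ sz x = a := by
  obtain ⟨g, hg⟩ := h.exA
  obtain ⟨q, hq, x, hxg, hxz, hx⟩ := ThreeSizes.exists_primary (x := g) (fun hz => by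
    have := TwoLargest.sz_eq_one_iff.2 hz
    have := h.ha; omega)
  refine ⟨q, hq, x, hx, h.eq_a_of_dvd (fun e => hxz (e ▸ one_mem _)) ?_⟩
  exact hg ▸ sz_dvd_of_le (ThreeSizes.cent_le_of_mem_zpowers hxg)

end Sizes

end Cfsg.Agent.CentreFreeThree
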