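import Cfsg.Agent.Lib.CentreFreeThree.Tri
import Cfsg.Agent.S4146

/-!
# Both coprime sizes divide the third: the group is solvable (owner: helper33)
-/

set_option autoImplicit false
set_option linter.style.haveILetI false
set_option linter.unusedSectionVars false

open Subgroup

namespace Cfsg.Agent.CentreFreeThree

open Cfsg.Agent.ClassGraph (sz cls)
open Cfsg.Agent.ThreeSizes (IsElt mem_cent self_mem mem_cent_symm isElt_of_mem)

variable {G : Type*} [Group G] [Finite G]

local notation "cent" x:max => Subgroup.centralizer ({x} : Set _)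

variable {a b c : ℕ}

/-- `TriOut` for a primary element of class size `a` -/
theorem Sizes.tri (h : Sizes G a b c) {d : ℕ} (hd : c = a * d) {q : ℕ} (hq : q.Prime) {x : G}
    (hx : IsElt q x) (hxa : sz x = a) : TriOut (cent x) q d := by
  refine CentreFreeThree.tri hq hx hxa h.ha ?_ fun z hz => hd ▸ h.mult_a hz
  have := h.hlt
  rcases d with _ | _ | d
  · omega
  · omega
  · omega

theorem dvd_card_cent (h : Sizes G a b c) {d : ℕ} (hd : c = a * d) {x : G} (hxa : sz x = a) :
    d ∣ Nat.card (cent x) := by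
  obtain ⟨w, hw⟩ := h.exC
  refine Nat.dvd_of_mul_dvd_mul_left (show 0 < a from lt_trans zero_lt_one h.ha) ?_
  have h1 := sz_mul_card x
  rw [hxa] at h1
  rw [h1, ← hd, ← hw]
  exact sz_dvd_card w

theorem Sizes.solvable_of_prod_lt (h : Sizes G a b c) (hbc : b ∣ c) (hab : a < b) : Group.IsSolvable G := by
  have habc : a * b ∣ c := h.cop.mul_dvd_of_dvd_of_dvd h.hac hbc
  rcases (Nat.le_of_dvd (by have := h.hc; omega) habc).eq_or_lt with hc | hclt
  · have hrange : Set.range (fun g : G => (cent g).index) = ({1, a, b, a * b} : Set ℕ) := by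
      ext n
      simp only [Set.mem_range, Set.mem_insert_iff, Set.mem_singleton_iff]
      constructor
      · rintro ⟨g, rfl⟩
        rcases eq_or_ne g 1 with rfl | hg
        · exact Or.inl sz_one
        · rw [hc]; exact Or.inr (h.size g hg)
      · rintro (rfl | rfl | rfl | rfl)
        · exact ⟨1, sz_one⟩
        · exact h.exA
        · exact h.exB
        · obtain ⟨w, hw⟩ := h.exC; exact ⟨w, hw.trans hc.symm⟩
    haveI := (S4146.result a b h.ha h.hb h.cop hrange).1
    infer_instance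
  obtain ⟨d, hd⟩ := h.hac
  have h' := h.symm hbc
  obtain ⟨d', hd'⟩ := hbc
  obtain ⟨q, hq, x, hx, hxa⟩ := h.exists_primary_a
  obtain ⟨s, hs, y, hy, hyb⟩ := h'.exists_primary_a
  haveI := Fact.mk hq
  set H := cent x with hH
  have hco : (sz x).Coprime (sz y) := by rw [hxa, hyb]; exact h.cop
  have hT := h.tri hd hq hx hxa
  have hle1 := TwoLargest.le_sz_mul_right hco
  have hle2 := sz_mul_le x y
  rw [hyb] at hle1; rw [hxa, hyb] at hle2
  have hxy : sz (x * y) = b := by
    have h1 : x * y ≠ 1 := ne_one_of_sz (by have := h.hb; omega)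
    rcases h.size _ h1 with e | e | e <;> omega
  have hcomm : ∀ g : G, Commute x (g * x * g⁻¹) := conj_commute_self hco (by rw [hxy, hyb])
  by_cases hall : ∀ g : G, cent (g * x * g⁻¹) = H
  · haveI : H.Normal := by
      refine ⟨fun n hn g => ?_⟩
      rw [← hall g, ThreeSizes.cent_conj]
      exact ⟨n, hn, rfl⟩
    refine solvable_of_sup (H := cent y) (N := H) (h'.tri hd' hs hy hyb).solv hT.solv ?_
    refine eq_top_iff.2 fun g _ => ?_
    obtain ⟨k, hk, f, hf, rfl⟩ := Solvable.exists_mul_of_coprime_index (H := cent y) (K := H) hco.symm g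
    exact mul_mem (mem_sup_right hk) (mem_sup_left hf)
  push Not at hall
  obtain ⟨g, hg⟩ := hall
  set x' := g * x * g⁻¹ with hx'
  have hx'a : sz x' = a := by rw [hx', ClassGraph.sz_conj, hxa]
  have hj : ∃ j, d = q ^ j := by
    refine ⟨d.primeFactorsList.length, Nat.eq_prime_pow_of_unique_prime_dvd ?_ fun {r} hr hrd => ?_⟩
    · rintro rfl; rw [mul_zero] at hd; have := h.hc; omega
    by_contra hrq
    haveI := Fact.mk hr
    have hrH : r ∣ Nat.card H := hrd.trans (dvd_card_cent h hd hxa)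
    obtain ⟨P⟩ : Nonempty (Sylow r H) := inferInstance
    obtain ⟨v, hvP, hv1, -, hvr⟩ := exists_sylow_central P hrH
    rw [sz_subtype] at hvr
    obtain ⟨e, he⟩ := isElt_of_mem P.2 hvP
    have hvr' : IsElt r (v : G) := ⟨e, by rw [Subgroup.orderOf_coe, he]⟩
    have h1 : (cent (v : G)).relIndex H = 1 :=
      (relIndex_cases hq hx hxa h.ha (fun z hz => hd ▸ h.mult_a hz) v.2
        (hvr'.not_dvd hr hq hrq)).resolve_right fun e => hvr (e.symm ▸ hrd)
    have hHv : H ≤ cent (v : G) := relIndex_eq_one.1 h1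
    have hva : sz (v : G) = a :=
      h.eq_a_of_dvd (fun e => hv1 (Subtype.ext e)) (hxa ▸ sz_dvd_of_le hHv)
    have hvc : cent (v : G) = H := (cent_eq_of_sz hHv (by rw [hxa, hva])).symm
    have hx'v : x' ∈ cent (v : G) := hvc.symm ▸ mem_cent.2 (hcomm g).eq.symm
    have hcm : cent ((v : G) * x') = H ⊓ cent x' := by
      rw [ThreeSizes.cent_mul (mem_cent.1 hx'v).symm (IsElt.coprime hr hq hrq hvr' (hx.conj g)), hvc]
    have hc' : sz ((v : G) * x') = c := by
      refine (h.mult_a ?_).resolve_left fun e => hg ?_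
      · rw [← hxa]; exact sz_dvd_of_le (hcm.le.trans inf_le_left)
      · have h2 : cent ((v : G) * x') = H := cent_eq_of_sz (hcm.le.trans inf_le_left) (by rw [e, hxa])
        exact (cent_eq_of_sz ((h2.symm.trans hcm).le.trans inf_le_right) (by rw [hxa, hx'a])).symm
    have h3 : c ≤ a * a := by
      rw [← hc', sz, hcm]
      calc (H ⊓ cent x').index ≤ H.index * (cent x').index := index_inf_le
        _ = a * a := by rw [show H.index = a from hxa, show (cent x').index = a from hx'a]
    have h4 : a * a < a * b := Nat.mul_lt_mul_of_pos_left hab (lt_trans zero_lt_one h.ha)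
    omega
  obtain ⟨j, hj⟩ := hj
  have hbq : b ∣ q ^ j := h.cop.symm.dvd_of_dvd_mul_left (hj ▸ hd ▸ Dvd.intro d' hd'.symm)
  obtain ⟨i, -, hi⟩ := (Nat.dvd_prime_pow hq).1 hbq
  have hi0 : i ≠ 0 := by rintro rfl; rw [pow_zero] at hi; have := h.hb; omega
  have hqa : ¬ q ∣ a := fun hd1 =>
    hq.ne_one (Nat.eq_one_of_dvd_coprimes h.cop hd1 (hi ▸ dvd_pow_self q hi0))
  have hprimes : ∀ l : ℕ, l.Prime → l ∣ Nat.card G → l = q ∨ l ∣ a := by
    intro l hl hlG
    rcases h.prime_cases hl hlG with e | e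
    · exact Or.inl ((Nat.prime_dvd_prime_iff_eq hl hq).1 (hl.dvd_of_dvd_pow (hi ▸ e)))
    · rw [hd, hj] at e
      rcases hl.dvd_mul.1 e with e | e
      · exact Or.inr e
      · exact Or.inl ((Nat.prime_dvd_prime_iff_eq hl hq).1 (hl.dvd_of_dvd_pow e))
  obtain ⟨p, hp, hpa⟩ := Nat.exists_prime_and_dvd (show a ≠ 1 by have := h.ha; omega)
  haveI := Fact.mk hp
  have hpq : p ≠ q := fun e => hqa (e ▸ hpa)
  obtain ⟨P⟩ : Nonempty (Sylow p G) := inferInstance
  obtain ⟨z, hzP, -, -, hzb⟩ := h.central_b hpa P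
  have honly : (∀ l : ℕ, l.Prime → l ∣ a → l = p) → Group.IsSolvable G := fun ho =>
    ItoSizes.isSolvable_of_two_primes hp hq fun l hl hlG => by
      rcases hprimes l hl hlG with e | e
      · exact Or.inr e
      · exact Or.inl (ho l hl e)
  have had : a ∣ d' := h.cop.dvd_of_dvd_mul_left (hd' ▸ h.hac)
  rcases (h'.tri hd' hp (isElt_of_mem P.2 hzP) hzb).cases with h0 | ⟨W, -, -, -, -, k, hk⟩ |
    ⟨r, hr, hrp, -, hdp⟩
  · refine solvable_of_elts hp hq fun l hl h1 h2 v hv => ?_
    rcases eq_or_ne v 1 with rfl | hv1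
    · exact one_mem _
    have hlb : ¬ l ∣ b := fun e => h2 ((Nat.prime_dvd_prime_iff_eq hl hq).1 (hl.dvd_of_dvd_pow (hi ▸ e)))
    obtain ⟨k, hk⟩ := exists_conj_mem_of_index (H := cent z) hl
      (by rwa [show (cent z).index = b from hzb]) hv
    have hle : cent z ≤ cent (k * v * k⁻¹) := h0 _ hk ((hv.conj k).not_dvd hl hp h1)
    have hsb : sz (k * v * k⁻¹) = b :=
      h'.eq_a_of_dvd (fun e => hv1 (conj_eq_one_iff.1 e)) (hzb ▸ sz_dvd_of_le hle)
    exact mem_rad_of_conj (mem_rad_of_sz hq (hsb.trans hi))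
  · exact honly fun l hl hla =>
      (Nat.prime_dvd_prime_iff_eq hl hp).1 (hl.dvd_of_dvd_pow (hk ▸ hla.trans had))
  · by_cases hqd : q ∣ d'
    · refine honly fun l hl hla => ?_
      have hqr : q = r := (hdp q hq hqd).resolve_left (Ne.symm hpq)
      exact (hdp l hl (hla.trans had)).resolve_right fun e => hqa ((e.trans hqr.symm) ▸ hla)
    · exfalso
      have hda : d' ∣ a := by
        refine Nat.Coprime.dvd_of_dvd_mul_right ?_ (show d' ∣ a * q ^ j from hj ▸ hd ▸ Dvd.intro_left b hd'.symm)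
        exact Nat.Coprime.pow_right _ ((hq.coprime_iff_not_dvd.2 hqd).symm)
      rw [hd', Nat.dvd_antisymm hda had, mul_comm] at hclt
      exact lt_irrefl _ hclt

/-- Both coprime sizes divide the third one: solvable. -/
theorem Sizes.solvable_of_prod (h : Sizes G a b c) (hbc : b ∣ c) : Group.IsSolvable G := by
  rcases h.a_ne_b.lt_or_gt with hlt | hgt
  · exact h.solvable_of_prod_lt hbc hlt
  · exact (h.symm hbc).solvable_of_prod_lt h.hac hgt

end Cfsg.Agent.CentreFreeThree
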