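import Cfsg.Agent.Lib.CentreFreeThree.Isolation

/-!
# An abelian CC-subgroup complementary to `C(t)`: facts about the radical (owner: helper33)
-/

set_option autoImplicit false
set_option linter.style.haveILetI false
set_option linter.unusedSectionVars false

open Subgroup

namespace Cfsg.Agent.CentreFreeThree

open Cfsg.Agent.ClassGraph (sz)
open Cfsg.Agent.ThreeSizes (IsElt mem_cent self_mem mem_cent_symm)

universe u

variable {G : Type u} [Group G] [Finite G] {t : G} {A : Subgroup G}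

local notation "cent" x:max => Subgroup.centralizer ({x} : Set _)

theorem CC.odd_card (h : CC t A) : Odd (Nat.card A) := by
  rw [← Nat.not_even_iff_odd, even_iff_two_dvd]
  intro h2
  exact Nat.prime_two.ne_one (Nat.eq_one_of_dvd_coprimes h.cop h2 (h.inv ▸ orderOf_dvd_natCard _ (self_mem t)))

theorem CC.eq_one_of_coprime (h : CC t A) {x : G} (hx : x ∈ A) {n : ℕ} (hn : n ∣ Nat.card (cent t))
    (hd : orderOf x ∣ n) : x = 1 :=
  orderOf_eq_one_iff.1 (Nat.eq_one_of_dvd_coprimes h.cop (orderOf_dvd_natCard _ hx) (hd.trans hn))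

theorem CC.card_normal_dvd (h : CC t A) {M : Subgroup G} [M.Normal] (hA : A ⊓ M = ⊥) :
    Nat.card M ∣ Nat.card (cent t) := by
  have h1 : A.relIndex M = Nat.card M := by rw [← inf_relIndex_right, hA, relIndex_bot_left]
  exact h1 ▸ h.index_A ▸ ClassIndex.relIndex_dvd_index_of_normal_right A M

theorem CC.normal_le_cent (h : CC t A) {M : Subgroup G} [M.Normal] (hA : A ⊓ M = ⊥) {x : G}
    (hx : sz x = Nat.card A) : M ≤ cent x := by
  refine relIndex_eq_one.1 (Nat.eq_one_of_dvd_coprimes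
    (Nat.Coprime.coprime_dvd_right (h.card_normal_dvd hA) h.cop) ?_ (relIndex_dvd_card _ M))
  exact hx ▸ ClassIndex.relIndex_dvd_index_of_normal_right _ M

/-- an element moved by `j` into `j w`, with `w` inverted of odd order -/
theorem exists_fix_mul {j w g : G} (hj : j * j = 1) (hw : Odd (orderOf w)) (hinv : j * w * j⁻¹ = w⁻¹)
    (hg : g * j * g⁻¹ = j * w) : ∃ s ∈ zpowers w, s * g ∈ cent j := by
  obtain ⟨k, hk⟩ := hw
  refine ⟨w ^ (k + 1), pow_mem (mem_zpowers w) _, ?_⟩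
  set s := w ^ (k + 1) with hs
  have hsq : s * s = w := by
    rw [hs, ← pow_add, show k + 1 + (k + 1) = 2 * k + 1 + 1 by ring, ← hk, pow_succ,
      pow_orderOf_eq_one, one_mul]
  have hst : j * s * j⁻¹ = s⁻¹ := by rw [hs, ← conj_pow, hinv, inv_pow]
  have e2 : j * s = s⁻¹ * j := mul_inv_eq_iff_eq_mul.1 hst
  refine mem_cent.2 ?_
  calc s * g * j = s * (g * j * g⁻¹) * g := by group
    _ = s * (j * s) * s * g := by rw [hg, ← hsq]; group
    _ = j * (s * g) := by rw [e2]; group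

/-- the normalizer of `A` is solvable if centralizers of involutions are -/
theorem CC.solvable_normalizer (h : CC t A)
    (hinv : ∀ j : G, orderOf j = 2 → Group.IsSolvable (cent j)) :
    Group.IsSolvable (normalizer (A : Set G)) := by
  set N := normalizer (A : Set G) with hN
  by_cases hodd : Odd (Nat.card N)
  · exact S0205.result hodd
  haveI := Fact.mk Nat.prime_two
  obtain ⟨⟨j, hjN⟩, hjo⟩ := exists_prime_orderOf_dvd_card' (G := N) 2
    (even_iff_two_dvd.1 (Nat.not_odd_iff_even.1 hodd))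
  rw [Subgroup.orderOf_mk] at hjo
  have hjA : j ∉ A := fun hm => by
    have h1 : Odd (orderOf j) := h.odd_card.of_dvd_nat (orderOf_dvd_natCard _ hm)
    rw [hjo] at h1
    exact absurd h1 (by decide)
  have hjj : j * j = 1 := by rw [← pow_two, ← hjo, pow_orderOf_eq_one]
  obtain ⟨hjinv, -⟩ := BSW.inverts_of_free A hjj (fun x hx => (mem_normalizer_iff.1 hjN x).1 hx)
    fun x hx hxj => by
      by_contra hx1
      exact hjA (h.centA x hx hx1 ▸ mem_cent.2 hxj)
  set A' := A.subgroupOf N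
  set C' := (cent j).subgroupOf N
  haveI : A'.Normal := Subgroup.normal_in_normalizer
  haveI : IsMulCommutative A' := ⟨⟨fun x y => Subtype.ext (Subtype.ext (h.comm _ x.2 _ y.2).eq)⟩⟩
  haveI := hinv j hjo
  refine solvable_of_sup (G := N) (H := C') (N := A') (Solvable.isSolvable_subgroupOf N)
    (Group.isSolvable_of_comm fun a b => IsMulCommutative.is_comm.comm a b) ?_
  refine eq_top_iff.2 fun g _ => ?_
  obtain ⟨a0, ha0⟩ : (A : Set G).Nonempty := ⟨1, one_mem A⟩
  have hwA : j⁻¹ * ((g : G) * j * (g : G)⁻¹) ∈ A := by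
    obtain ⟨z, hz, hz1⟩ := (bot_or_exists_ne_one A).resolve_left h.ne_bot
    rw [← h.centA z hz hz1]
    refine mem_cent.2 ?_
    have hz' : (g : G)⁻¹ * z * g ∈ A := by
      have := (mem_normalizer_iff.1 (inv_mem g.2) z).1 hz
      rwa [inv_inv] at this
    have e1 : (g : G) * j * (g : G)⁻¹ * z * ((g : G) * j * (g : G)⁻¹)⁻¹ = z⁻¹ := by
      calc _ = (g : G) * (j * ((g : G)⁻¹ * z * g) * j⁻¹) * (g : G)⁻¹ := by group
        _ = (g : G) * ((g : G)⁻¹ * z * g)⁻¹ * (g : G)⁻¹ := by rw [hjinv _ hz']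
        _ = z⁻¹ := by group
    have e2 : j * z * j⁻¹ = z⁻¹ := hjinv z hz
    calc j⁻¹ * ((g : G) * j * (g : G)⁻¹) * z
        = j⁻¹ * ((g : G) * j * (g : G)⁻¹ * z * ((g : G) * j * (g : G)⁻¹)⁻¹) * ((g : G) * j * (g : G)⁻¹) := by
          group
      _ = j⁻¹ * (j * z * j⁻¹) * ((g : G) * j * (g : G)⁻¹) := by rw [e1, e2]
      _ = z * (j⁻¹ * ((g : G) * j * (g : G)⁻¹)) := by group
  set w := j⁻¹ * ((g : G) * j * (g : G)⁻¹) with hw
  obtain ⟨s, hs, hsg⟩ := exists_fix_mul (g := (g : G)) hjj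
    (h.odd_card.of_dvd_nat (orderOf_dvd_natCard _ hwA)) (hjinv w hwA) (by rw [hw, mul_inv_cancel_left])
  have hsA : s ∈ A := (zpowers_le.2 hwA) hs
  have hsN : s ∈ N := le_normalizer hsA
  have h1 : (⟨s, hsN⟩ : N) * g ∈ C' := hsg
  have h2 : (⟨s, hsN⟩ : N) ∈ A' := hsA
  have := mul_mem (mem_sup_right (S := C') (inv_mem h2)) (mem_sup_left (T := A') h1)
  rwa [inv_mul_cancel_left] at this

/-- the radical meets `A`: solvable -/
theorem CC.solvable_of_inf_ne (h : CC t A) (hinv : ∀ j : G, orderOf j = 2 → Group.IsSolvable (cent j))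
    (hA : A ⊓ rad G ≠ ⊥) : Group.IsSolvable G := by
  obtain ⟨p, hp, hpd⟩ := Nat.exists_prime_and_dvd (n := Nat.card ↥(A ⊓ rad G))
    (fun e => hA (Subgroup.card_eq_one.1 e))
  haveI := Fact.mk hp
  have hidx : ¬ p ∣ (A.subgroupOf (rad G)).index := fun hd => hp.ne_one
    (Nat.eq_one_of_dvd_coprimes h.cop (hpd.trans (card_dvd_of_le inf_le_left))
      (hd.trans (h.index_A ▸ ClassIndex.relIndex_dvd_index_of_normal_right A (rad G))))
  obtain ⟨P, hP⟩ := sylow_le_of_index hidx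
  have hPA : ∀ x ∈ (P : Subgroup (rad G)).map (rad G).subtype, x ∈ A := by
    rintro _ ⟨y, hy, rfl⟩; exact hP hy
  have hP0 : (P : Subgroup (rad G)) ≠ ⊥ := P.ne_bot_of_dvd_card (hpd.trans (card_dvd_of_le inf_le_right))
  obtain ⟨z, hz, hz1⟩ := (bot_or_exists_ne_one (P : Subgroup (rad G))).resolve_left hP0
  have hz1' : (z : G) ≠ 1 := fun e => hz1 (Subtype.ext e)
  have hzA : (z : G) ∈ A := hP hz
  have htop := Sylow.normalizer_sup_eq_top (N := rad G) P
  have hle : normalizer (((P : Subgroup (rad G)).map (rad G).subtype : Subgroup G) : Set G) ≤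
      normalizer (A : Set G) := fun x hx => by
    refine h.mem_normalizer hzA hz1' (hPA _ ?_)
    have := (mem_normalizer_iff.1 (inv_mem hx) (z : G)).1 ⟨z, hz, rfl⟩
    rwa [inv_inv] at this
  haveI := h.solvable_normalizer hinv
  exact solvable_of_sup (Solvable.isSolvable_of_le hle) inferInstance htop

/-! ### modulo the radical -/

/-- an element centralising `z ∈ A` modulo `M` lies in `A` modulo `M` -/
theorem CC.exists_fix (h : CC t A) {M : Subgroup G} [hM : M.Normal] (hA : A ⊓ M = ⊥) {z g : G}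
    (hz : z ∈ A) (hz1 : z ≠ 1) (hg : g * z * g⁻¹ * z⁻¹ ∈ M) : ∃ r ∈ M, r⁻¹ * g ∈ A := by
  let f : M → M := fun r => ⟨(r : G) * z * (r : G)⁻¹ * z⁻¹, by
    rw [show (r : G) * z * (r : G)⁻¹ * z⁻¹ = (r : G) * (z * (r : G)⁻¹ * z⁻¹) by group]
    exact mul_mem r.2 (hM.conj_mem _ (inv_mem r.2) z)⟩
  have hf : Function.Injective f := fun r r' e => by
    have h1 : (r : G) * z * (r : G)⁻¹ = (r' : G) * z * (r' : G)⁻¹ := mul_right_cancel (congrArg Subtype.val e)
    have h2 : (r' : G)⁻¹ * r ∈ A ⊓ M := by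
      refine mem_inf.2 ⟨?_, M.mul_mem (M.inv_mem r'.2) r.2⟩
      rw [← h.centA z hz hz1]
      refine mem_cent.2 ?_
      calc (r' : G)⁻¹ * r * z = (r' : G)⁻¹ * ((r : G) * z * (r : G)⁻¹) * r := by group
        _ = z * ((r' : G)⁻¹ * r) := by rw [h1]; group
    rw [hA, mem_bot, inv_mul_eq_one] at h2
    exact Subtype.ext h2.symm
  obtain ⟨r, hr⟩ := Finite.surjective_of_injective hf ⟨_, hg⟩
  refine ⟨r, r.2, ?_⟩
  have h1 : (r : G) * z * (r : G)⁻¹ = g * z * g⁻¹ := mul_right_cancel (congrArg Subtype.val hr)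
  rw [← h.centA z hz hz1]
  refine mem_cent.2 ?_
  calc (r : G)⁻¹ * g * z = (r : G)⁻¹ * (g * z * g⁻¹) * g := by group
    _ = z * ((r : G)⁻¹ * g) := by rw [← h1]; group

theorem CC.card_map (h : CC t A) {M : Subgroup G} [M.Normal] (hA : A ⊓ M = ⊥) :
    Nat.card (A.map (QuotientGroup.mk' M)) = Nat.card A :=
  Solvable.card_map_of_disjoint _ A (by rwa [QuotientGroup.ker_mk'])

theorem CC.cent_map (h : CC t A) {M : Subgroup G} [M.Normal] (hA : A ⊓ M = ⊥)
    {z : G ⧸ M} (hz : z ∈ A.map (QuotientGroup.mk' M)) (hz1 : z ≠ 1) :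
    cent z = A.map (QuotientGroup.mk' M) := by
  obtain ⟨z, hzA, rfl⟩ := hz
  refine le_antisymm (fun y hy => ?_) ?_
  · obtain ⟨g, rfl⟩ := QuotientGroup.mk'_surjective M y
    have hg : g * z * g⁻¹ * z⁻¹ ∈ M := by
      refine (QuotientGroup.eq_one_iff _).1 ?_
      show QuotientGroup.mk' M (g * z * g⁻¹ * z⁻¹) = 1
      rw [map_mul, map_mul, map_mul, map_inv, map_inv, mem_cent.1 hy, mul_inv_cancel_right, mul_inv_cancel]
    obtain ⟨r, hr, hra⟩ := h.exists_fix hA hzA (fun e => hz1 (by rw [e, map_one])) hg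
    refine ⟨r⁻¹ * g, hra, ?_⟩
    rw [map_mul, map_inv, show QuotientGroup.mk' M r = 1 from (QuotientGroup.eq_one_iff r).2 hr, inv_one, one_mul]
  · rintro _ ⟨y, hy, rfl⟩
    exact mem_cent.2 (by rw [← map_mul, ← map_mul, (h.comm y hy z hzA).eq])

theorem CC.card_map_cent (h : CC t A) {M : Subgroup G} [M.Normal] (hM : M ≤ cent t) :
    Nat.card ((cent t).map (QuotientGroup.mk' M)) * Nat.card M = Nat.card (cent t) := by
  have e := Cores.card_map_mul_ker (QuotientGroup.mk' M) (cent t) (by rwa [QuotientGroup.ker_mk'])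
  rwa [QuotientGroup.ker_mk'] at e

theorem CC.quot (h : CC t A) {M : Subgroup G} [M.Normal] (hA : A ⊓ M = ⊥) (hM : M ≤ cent t)
    {j : G ⧸ M} (hj : orderOf j = 2) (hle : (cent t).map (QuotientGroup.mk' M) ≤ cent j) :
    CC j (A.map (QuotientGroup.mk' M)) := by
  set q := QuotientGroup.mk' M
  set A' := A.map q
  set H' := (cent t).map q
  have hA'c : Nat.card A' = Nat.card A := h.card_map hA
  have hH'c : Nat.card H' ∣ Nat.card (cent t) :=
    ⟨Nat.card (M.subgroupOf (cent t)), by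
      rw [Nat.card_congr (subgroupOfEquivOfLe hM).toEquiv]; exact (h.card_map_cent hM).symm⟩
  have hG : Nat.card A * Nat.card H' = Nat.card (G ⧸ M) := by
    refine Nat.eq_of_mul_eq_mul_right (Nat.card_pos (α := M)) ?_
    rw [mul_assoc, h.card_map_cent hM, h.prod]
    exact Subgroup.card_eq_card_quotient_mul_card_subgroup M
  -- no element of `C(j)` has order dividing `|A|`
  have hjA : ∀ y ∈ A', y ≠ 1 → ∀ g : G ⧸ M, g * y * g⁻¹ ∉ cent j := by
    intro y hy hy1 g hg
    have h2 : g⁻¹ * j * g ∈ cent y := by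
      refine mem_cent.2 ?_
      calc g⁻¹ * j * g * y = g⁻¹ * (j * (g * y * g⁻¹)) * g := by group
        _ = g⁻¹ * (g * y * g⁻¹ * j) * g := by rw [mem_cent.1 hg]
        _ = y * (g⁻¹ * j * g) := by group
    rw [h.cent_map hA hy hy1] at h2
    have h3 : Odd (orderOf (g⁻¹ * j * g)) := h.odd_card.of_dvd_nat (hA'c ▸ orderOf_dvd_natCard _ h2)
    rw [show g⁻¹ * j * g = MulAut.conj g⁻¹ j by simp, MulEquiv.orderOf_eq, hj] at h3
    exact absurd h3 (by decide)
  have hcop : (Nat.card A').Coprime (Nat.card (cent j)) := by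
    refine Nat.coprime_of_dvd fun p hp h1 h2 => ?_
    haveI := Fact.mk hp
    obtain ⟨⟨x, hx⟩, hxo⟩ := exists_prime_orderOf_dvd_card' (G := cent j) p h2
    rw [Subgroup.orderOf_mk] at hxo
    have hidx : ¬ p ∣ A'.index := fun hd => hp.ne_one (Nat.eq_one_of_dvd_coprimes h.cop (hA'c ▸ h1)
      (hd.trans (dvd_of_eq (Nat.eq_of_mul_eq_mul_left (Nat.card_pos (α := A'))
        (A'.card_mul_index.trans (by rw [hA'c]; exact hG.symm))) |>.trans hH'c)))
    obtain ⟨g, hg⟩ := exists_conj_mem_of_index hp hidx (x := x) ⟨1, by rw [hxo, pow_one]⟩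
    refine hjA _ hg (fun e => ?_) g⁻¹ (by simpa [mul_assoc] using hx)
    rw [conj_eq_one_iff.1 e, orderOf_one] at hxo
    exact hp.ne_one hxo.symm
  have hcent : cent j = H' := by
    refine (eq_of_le_of_card_ge hle (Nat.le_of_dvd Nat.card_pos ?_)).symm
    refine Nat.Coprime.dvd_of_dvd_mul_left (hA'c ▸ hcop.symm) ?_
    rw [hG]; exact card_subgroup_dvd_card _
  refine ⟨hj, ?_, fun e => h.ne_bot ?_, hcop, by rw [hcent, hA'c, hG], fun z hz hz1 => h.cent_map hA hz hz1, ?_⟩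
  · rintro _ ⟨x, hx, rfl⟩ _ ⟨y, hy, rfl⟩
    exact (h.comm x hx y hy).map q
  · exact Subgroup.card_eq_one.1 (hA'c ▸ (e ▸ Subgroup.card_bot))
  · rw [hcent]
    haveI := h.solv
    exact Solvable.isSolvable_map q _

end Cfsg.Agent.CentreFreeThree
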