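import Cfsg.Agent.EqLemmas

/-!
# Two families of TI-subgroups covering a group (owner: helper33)

If every element is conjugate into exactly one of the TI-subgroups `K`, `L` with `|K| |L| = |G|`,
then `K` or `L` is normal.
-/

set_option autoImplicit false

open Subgroup

namespace Cfsg.Agent.CentreFreeThree

variable {G : Type*} [Group G] [Finite G]

/-- the nontrivial elements with a conjugate in `K` -/
def conjUnion (K : Subgroup G) : Set G := {y | y ≠ 1 ∧ ∃ g : G, g * y * g⁻¹ ∈ K}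

theorem conjUnion_ncard_mul {K : Subgroup G}
    (hTI : ∀ g : G, g ∈ normalizer (K : Set G) ∨ ∀ x ∈ K, g * x * g⁻¹ ∈ K → x = 1) :
    (conjUnion K).ncard * Nat.card (normalizer (K : Set G)) = Nat.card G * (Nat.card K - 1) := by
  classical
  let X := {x : K // x ≠ 1}
  let F : G × X → conjUnion K := fun p => ⟨p.1 * (p.2.1 : G) * p.1⁻¹,
    fun e => p.2.2 (Subtype.ext (conj_eq_one_iff.1 e)), p.1⁻¹, by simp [mul_assoc]⟩
  have hfib : ∀ y : conjUnion K, Nat.card {p : G × X // F p = y} = Nat.card (normalizer (K : Set G)) := by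
    rintro ⟨y, hy1, g0, hg0⟩
    have hx0 : (⟨g0 * y * g0⁻¹, hg0⟩ : K) ≠ 1 := fun e =>
      hy1 (conj_eq_one_iff.1 (congrArg Subtype.val e))
    have hnorm : ∀ p : {p : G × X // F p = ⟨y, hy1, g0, hg0⟩}, g0 * p.1.1 ∈ normalizer (K : Set G) := by
      rintro ⟨⟨g, x, hx⟩, hp⟩
      have hpy : g * (x : G) * g⁻¹ = y := congrArg Subtype.val hp
      refine (hTI (g0 * g)).resolve_right fun h => hx (Subtype.ext (h x x.2 ?_))
      rw [show g0 * g * (x : G) * (g0 * g)⁻¹ = g0 * (g * (x : G) * g⁻¹) * g0⁻¹ by group, hpy]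
      exact hg0
    have hmem : ∀ n : normalizer (K : Set G), (n : G)⁻¹ * (g0 * y * g0⁻¹) * (n : G) ∈ K := fun n => by
      have h := (mem_normalizer_iff.1 (inv_mem n.2) (g0 * y * g0⁻¹)).1 hg0
      rwa [inv_inv] at h
    refine Nat.card_congr
      { toFun := fun p => ⟨g0 * p.1.1, hnorm p⟩
        invFun := fun n => ⟨(g0⁻¹ * (n : G), ⟨⟨_, hmem n⟩, fun e => hy1 ?_⟩), Subtype.ext ?_⟩
        left_inv := ?_
        right_inv := fun n => Subtype.ext (mul_inv_cancel_left g0 (n : G)) }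
    · have h : (n : G)⁻¹ * (g0 * y * g0⁻¹) * (n : G) = 1 := congrArg Subtype.val e
      have h2 : g0 * y * g0⁻¹ = 1 := conj_eq_one_iff.1
        (show (n : G)⁻¹ * (g0 * y * g0⁻¹) * (n : G)⁻¹⁻¹ = 1 by rwa [inv_inv])
      exact conj_eq_one_iff.1 h2
    · show g0⁻¹ * (n : G) * ((n : G)⁻¹ * (g0 * y * g0⁻¹) * (n : G)) * (g0⁻¹ * (n : G))⁻¹ = y
      group
    · rintro ⟨⟨g, x, hx⟩, hp⟩
      have hpy : g * (x : G) * g⁻¹ = y := congrArg Subtype.val hp
      refine Subtype.ext (Prod.ext (inv_mul_cancel_left g0 g) (Subtype.ext (Subtype.ext ?_)))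
      show (g0 * g)⁻¹ * (g0 * y * g0⁻¹) * (g0 * g) = (x : G)
      rw [← hpy]; group
  haveI := Fintype.ofFinite (conjUnion K)
  have h1 : Nat.card (G × X) = (conjUnion K).ncard * Nat.card (normalizer (K : Set G)) := by
    rw [← Nat.card_congr (Equiv.sigmaFiberEquiv F), Nat.card_sigma, Finset.sum_congr rfl fun y _ => hfib y,
      Finset.sum_const, smul_eq_mul, Finset.card_univ, ← Nat.card_eq_fintype_card, Nat.card_coe_set_eq]
  have h2 : Nat.card X = Nat.card K - 1 := by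
    haveI := Fintype.ofFinite K
    rw [Nat.card_eq_fintype_card, Nat.card_eq_fintype_card, Fintype.card_subtype_compl,
      Fintype.card_subtype_eq]
  rw [← h1, Nat.card_prod, h2]

theorem normal_or_normal {K L : Subgroup G} (hK0 : K ≠ ⊥) (hL0 : L ≠ ⊥)
    (hprod : Nat.card K * Nat.card L = Nat.card G)
    (hK : ∀ g : G, g ∈ normalizer (K : Set G) ∨ ∀ x ∈ K, g * x * g⁻¹ ∈ K → x = 1)
    (hL : ∀ g : G, g ∈ normalizer (L : Set G) ∨ ∀ x ∈ L, g * x * g⁻¹ ∈ L → x = 1)
    (hdisj : ∀ (x g : G), x ∈ K → g * x * g⁻¹ ∈ L → x = 1)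
    (hcov : ∀ y : G, ∃ g : G, g * y * g⁻¹ ∈ K ∨ g * y * g⁻¹ ∈ L) : K.Normal ∨ L.Normal := by
  have hu : (conjUnion K).ncard + (conjUnion L).ncard = Nat.card G - 1 := by
    rw [← Set.ncard_union_eq ?_ (Set.toFinite _) (Set.toFinite _),
      show conjUnion K ∪ conjUnion L = ({1} : Set G)ᶜ from ?_, Set.ncard_compl, Set.ncard_singleton]
    · ext y
      simp only [conjUnion, Set.mem_union, Set.mem_setOf_eq, Set.mem_compl_iff, Set.mem_singleton_iff]
      constructor
      · rintro (h | h) <;> exact h.1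
      · intro hy
        obtain ⟨g, hg | hg⟩ := hcov y
        exacts [Or.inl ⟨hy, g, hg⟩, Or.inr ⟨hy, g, hg⟩]
    · rw [Set.disjoint_left]
      rintro y ⟨hy, g, hg⟩ ⟨-, g', hg'⟩
      refine hy (conj_eq_one_iff.1 (hdisj _ (g' * g⁻¹) hg ?_))
      rw [show g' * g⁻¹ * (g * y * g⁻¹) * (g' * g⁻¹)⁻¹ = g' * y * g'⁻¹ by group]
      exact hg'
  have eK := conjUnion_ncard_mul hK
  have eL := conjUnion_ncard_mul hL
  obtain ⟨β, hβ⟩ := card_dvd_of_le (le_normalizer (H := K))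
  obtain ⟨γ, hγ⟩ := card_dvd_of_le (le_normalizer (H := L))
  have hk : 2 ≤ Nat.card K := (Subgroup.one_lt_card_iff_ne_bot K).2 hK0
  have hl : 2 ≤ Nat.card L := (Subgroup.one_lt_card_iff_ne_bot L).2 hL0
  have hβ0 : 0 < β := Nat.pos_of_ne_zero fun e => by rw [e, mul_zero] at hβ; exact Nat.card_pos.ne' hβ
  have hγ0 : 0 < γ := Nat.pos_of_ne_zero fun e => by rw [e, mul_zero] at hγ; exact Nat.card_pos.ne' hγ
  obtain ⟨k, hk'⟩ : ∃ k, Nat.card K = k + 1 := ⟨Nat.card K - 1, by omega⟩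
  obtain ⟨l, hl'⟩ : ∃ l, Nat.card L = l + 1 := ⟨Nat.card L - 1, by omega⟩
  rw [hk'] at hprod hβ eK hk
  rw [hl'] at hprod hγ eL hl
  rw [← hprod, hβ] at eK
  rw [← hprod, hγ] at eL
  rw [← hprod] at hu
  set U := (conjUnion K).ncard
  set V := (conjUnion L).ncard
  have eK' : U * β = (l + 1) * k := by
    refine Nat.eq_of_mul_eq_mul_left (show 0 < k + 1 by omega) ?_
    rw [Nat.add_sub_cancel] at eK
    linarith
  have eL' : V * γ = (k + 1) * l := by
    refine Nat.eq_of_mul_eq_mul_left (show 0 < l + 1 by omega) ?_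
    rw [Nat.add_sub_cancel] at eL
    linarith
  have hu' : U + V + 1 = (k + 1) * (l + 1) := by
    have : 1 ≤ (k + 1) * (l + 1) := Nat.one_le_iff_ne_zero.2 (by positivity)
    omega
  rcases (show β = 1 ∨ 2 ≤ β by omega) with hb | hb
  · refine Or.inr (normalizer_eq_top_iff.1 (eq_top_of_card_eq _ ?_))
    rw [hb, mul_one] at eK'
    have hV : V = l := by nlinarith
    rw [hV] at eL'
    have : γ = k + 1 := Nat.eq_of_mul_eq_mul_left (show 0 < l by omega) (by linarith)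
    rw [hγ, this, ← hprod, mul_comm]
  rcases (show γ = 1 ∨ 2 ≤ γ by omega) with hc | hc
  · refine Or.inl (normalizer_eq_top_iff.1 (eq_top_of_card_eq _ ?_))
    rw [hc, mul_one] at eL'
    have hU : U = k := by nlinarith
    rw [hU] at eK'
    have : β = l + 1 := Nat.eq_of_mul_eq_mul_left (show 0 < k by omega) (by linarith)
    rw [hβ, this, ← hprod]
  · exfalso
    have h1 : U * 2 ≤ U * β := Nat.mul_le_mul_left _ hb
    have h2 : V * 2 ≤ V * γ := Nat.mul_le_mul_left _ hc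
    nlinarith

end Cfsg.Agent.CentreFreeThree
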