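import Cfsg.Agent.Lib.CentreFreeThree.EndgameTI

/-!
# An abelian CC-subgroup complementary to `C(t)`: the group is solvable (owner: helper33)
-/

set_option autoImplicit false
set_option linter.style.haveILetI false
set_option linter.unusedSectionVars false

open Subgroup

namespace Cfsg.Agent.CentreFreeThree

open Cfsg.Agent.ClassGraph (sz)
open Cfsg.Agent.ThreeSizes (IsElt mem_cent self_mem mem_cent_symm isElt_of_mem)

universe u

variable {G : Type u} [Group G] [Finite G] {t : G} {A : Subgroup G}

local notation "cent" x:max => Subgroup.centralizer ({x} : Set _)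

variable {a b c : ℕ}

theorem CC.card_eq (hcc : CC t A) (hta : sz t = a) : Nat.card A = a := hcc.index_cent.symm.trans hta

theorem solvable_of_cc (h : Sizes G a b c) (hbc : ¬ b ∣ c) (hcc : CC t A) (hta : sz t = a) :
    Group.IsSolvable G := by
  have h2 := Nat.prime_two
  haveI := Fact.mk h2
  by_cases hA : A ⊓ rad G = ⊥
  swap
  · exact hcc.solvable_of_inf_ne (fun j hj => h.solvable_cent_involution hbc hj) hA
  set R := rad G with hR
  have hAa : Nat.card A = a := hcc.card_eq hta
  have htR : t ∈ R := hcc.mem_rad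
  have hle : ∀ x : G, sz x = a → R ≤ cent x := fun x hx => hcc.normal_le_cent hA (hx.trans hAa.symm)
  haveI : (centralizer (R : Set G)).Normal := Subgroup.normal_centralizer
  have hCt : centralizer (R : Set G) ≤ cent t := fun g hg =>
    mem_cent.2 (mem_centralizer_iff.1 hg t htR).symm
  haveI := hcc.solv
  have hC : centralizer (R : Set G) ≤ R := le_rad inferInstance (Solvable.isSolvable_of_le hCt)
  have hx : ∀ x : G, sz x = a → x ∈ R := fun x hxa =>
    hC (mem_centralizer_iff.2 fun y hy => mem_cent.1 (hle x hxa hy))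
  have hodd : ¬ 2 ∣ a := by
    rw [← hAa, ← even_iff_two_dvd, Nat.not_even_iff_odd]; exact hcc.odd_card
  obtain ⟨d, hd⟩ := h.hac
  have hsize : ∀ (l : ℕ) (v : G), l.Prime → ¬ l ∣ a → IsElt l v → v ∉ R → sz v = c := by
    intro l v hl hla hv hvR
    have hv1 : v ≠ 1 := fun e => hvR (e ▸ one_mem _)
    rcases h.size v hv1 with e | e | e
    · exact absurd (hx v e) hvR
    · exfalso
      have e1 : b * Nat.card (cent v) = Nat.card G := e ▸ sz_mul_card v
      have e2 : a * Nat.card (cent t) = Nat.card G := hta ▸ sz_mul_card t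
      have hb : Nat.card (cent t) = b := by
        obtain ⟨z, hz, hz1⟩ := (bot_or_exists_ne_one A).resolve_left hcc.ne_bot
        have hz' : sz z = Nat.card (cent t) := by rw [sz, hcc.centA z hz hz1, hcc.index_A]
        rcases h.size z hz1 with f | f | f
        · exfalso
          have h3 : Nat.Coprime a a := by
            have h4 := hcc.cop
            rwa [hAa, ← hz', f] at h4
          rw [Nat.coprime_self] at h3
          have := h.ha; omega
        · exact hz'.symm.trans f
        · exfalso
          have h3 : a.Coprime c := by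
            have h4 := hcc.cop
            rwa [hAa, ← hz', f] at h4
          have := Nat.eq_one_of_dvd_coprimes h3 dvd_rfl h.hac
          have := h.ha; omega
      have h2 : Nat.card (cent v) ∣ a := by
        refine dvd_of_eq (Nat.eq_of_mul_eq_mul_left (show 0 < b from lt_trans zero_lt_one h.hb) ?_)
        rw [e1, ← e2, hb, mul_comm]
      obtain ⟨i, hi⟩ := hv
      refine hv1 (orderOf_eq_one_iff.1 (Nat.eq_one_of_dvd_coprimes ?_ dvd_rfl
        ((orderOf_dvd_natCard _ (self_mem v)).trans h2)))
      rw [hi]; exact Nat.Coprime.pow_left _ (hl.coprime_iff_not_dvd.2 hla)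
    · exact e
  have ho : Outside G t a c d := ⟨hd, hodd, hta, hle t hta, hsize⟩
  have ht2 : IsElt 2 t := ⟨1, by rw [hcc.inv, pow_one]⟩
  have hT := h.tri hd h2 ht2 hta
  by_cases h0 : AllCentral (cent t) 2
  · -- the odd primes prime to `a` lie in the radical
    set q := QuotientGroup.mk' R
    set A' := A.map q
    have hidx : ∀ l : ℕ, l.Prime → l ∣ A'.index → l = 2 := by
      intro l hl hd'
      by_contra hne
      haveI := Fact.mk hl
      have h1 : l ∣ (A ⊔ R).index := by
        rwa [Subgroup.index_map, QuotientGroup.ker_mk', MonoidHom.range_eq_top.2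
          (QuotientGroup.mk'_surjective R), index_top, mul_one] at hd'
      have hla : ¬ l ∣ a := fun hla => hl.ne_one (Nat.eq_one_of_dvd_coprimes hcc.cop (hAa.symm ▸ hla)
        (h1.trans ((index_dvd_of_le le_sup_left).trans (dvd_of_eq hcc.index_A))))
      obtain ⟨P⟩ : Nonempty (Sylow l G) := inferInstance
      refine P.not_dvd_index (h1.trans (index_dvd_of_le (le_trans (fun v hv => ?_) le_sup_right)))
      rcases eq_or_ne v 1 with rfl | hv1
      · exact one_mem _
      have hve : IsElt l v := isElt_of_mem P.2 hv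
      obtain ⟨g, hg⟩ := exists_conj_mem_of_index (H := cent t) hl
        (by rwa [show (cent t).index = a from hta]) hve
      exact mem_rad_of_conj (hx _ (h.eq_a_of_dvd (fun e => hv1 (conj_eq_one_iff.1 e))
        (hta ▸ sz_dvd_of_le (h0 _ hg ((hve.conj g).not_dvd hl h2 hne)))))
    obtain ⟨z, hz, hz1⟩ := (bot_or_exists_ne_one A).resolve_left hcc.ne_bot
    have hzR : z ∉ R := fun e => hz1 (mem_bot.1 (hA ▸ (⟨hz, e⟩ : z ∈ A ⊓ R)))
    have hqz : q z ≠ 1 := fun e => hzR ((QuotientGroup.eq_one_iff z).1 e)
    exfalso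
    have h1 : sz (q z) = 2 ^ A'.index.primeFactorsList.length := by
      rw [sz, hcc.cent_map hA ⟨z, hz, rfl⟩ hqz]
      exact Nat.eq_prime_pow_of_unique_prime_dvd Subgroup.index_ne_zero_of_finite fun {l} hl => hidx l hl
    have h3 := mem_rad_of_sz h2 h1
    rw [rad_quotient, mem_bot] at h3
    exact hqz h3
  by_cases hpow : ∃ j, d = 2 ^ j
  · obtain ⟨j, hj⟩ := hpow
    exact solvable_of_pow_two h ho hcc hA hT hj
  rcases hT.cases with h' | ⟨W, -, -, -, -, hj⟩ | ⟨r, hr, hr2, -, hdr⟩
  · exact absurd h' h0
  · exact absurd hj hpow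
  refine solvable_of_ti h ho hcc hx hC hle hA hr hr2 ?_
  by_contra hrd
  refine hpow ⟨d.primeFactorsList.length, Nat.eq_prime_pow_of_unique_prime_dvd ?_ fun {l} hl hld => ?_⟩
  · rintro rfl; rw [mul_zero] at hd; have := h.hc; omega
  · exact (hdr l hl hld).resolve_right fun e => hrd (e ▸ hld)

end Cfsg.Agent.CentreFreeThree
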