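import Cfsg.Agent.Lib.CentreFreeThree.CCFacts

/-!
# `C(t)` when its noncentral odd elements have classes of 2-power size there (owner: helper33)

`Outside`: what is known about the primary elements outside the radical.  If `d` is a power of 2, the
image of a Sylow 2-subgroup centralises that of a Sylow `r`-subgroup, so `G` is solvable.
-/

set_option autoImplicit false
set_option linter.style.haveILetI false
set_option linter.unusedSectionVars false

open Subgroup

namespace Cfsg.Agent.CentreFreeThree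

open Cfsg.Agent.ClassGraph (sz)
open Cfsg.Agent.ThreeSizes (IsElt mem_cent self_mem mem_cent_symm isElt_of_mem)

universe u

variable {G : Type u} [Group G] [Finite G] {t : G} {A : Subgroup G}

local notation "cent" x:max => Subgroup.centralizer ({x} : Set _)

theorem Sizes.c_central {a b c : ℕ} (h : Sizes G a b c) {s : ℕ} (hs : s.Prime) {w v : G}
    (hw : sz w = c) (hws : IsElt s w) (hv : v ∈ cent w) (hvs : ¬ s ∣ orderOf v) :
    cent w ≤ cent v := by
  have hcm : cent (w * v) = cent w ⊓ cent v :=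
    ThreeSizes.cent_mul (mem_cent.1 hv).symm (hws.coprime_order hs hvs)
  exact inf_eq_left.1 (hcm.symm.trans (h.c_min hw (hcm.le.trans inf_le_left)))

/-- centralizers of involutions are solvable -/
theorem Sizes.solvable_cent_involution {a b c : ℕ} (h : Sizes G a b c) (hbc : ¬ b ∣ c) {j : G}
    (hj : orderOf j = 2) : Group.IsSolvable (cent j) := by
  have h2 := Nat.prime_two
  haveI := Fact.mk h2
  have hj2 : IsElt 2 j := ⟨1, by rw [hj, pow_one]⟩
  rcases h.size j (fun e => by rw [e, orderOf_one] at hj; exact absurd hj (by decide)) with e | e | e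
  · obtain ⟨d, hd⟩ := h.hac
    exact (h.tri hd h2 hj2 e).solv
  · rcases h.comm_or_pGroup hbc h2 e hj2 with hp | hc
    · exact Solvable.isSolvable_of_isPGroup hp
    · exact Group.isSolvable_of_comm fun x y => Subtype.ext (hc x x.2 y y.2).eq
  · refine solvable_of_elts_one h2 fun l hl hne v hv => mem_rad_of_center (mem_center_iff.2 fun x => ?_)
    refine Subtype.ext (mem_cent.1 (h.c_central h2 e hj2 v.2 ?_ x.2))
    rw [Subgroup.orderOf_coe]
    exact hv.not_dvd hl h2 hne

/-- what is known outside the radical -/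
structure Outside (G : Type u) [Group G] (t : G) (a c d : ℕ) : Prop where
  hd : c = a * d
  odd : ¬ 2 ∣ a
  hta : sz t = a
  le : rad G ≤ Subgroup.centralizer ({t} : Set G)
  size : ∀ (l : ℕ) (v : G), l.Prime → ¬ l ∣ a → IsElt l v → v ∉ rad G → sz v = c

theorem solvable_of_pow_two {a b c d : ℕ} (h : Sizes G a b c) (ho : Outside G t a c d) (hcc : CC t A)
    (hA : A ⊓ rad G = ⊥) (hT : TriOut (Subgroup.centralizer ({t} : Set G)) 2 d) {e : ℕ} (he : d = 2 ^ e) :
    Group.IsSolvable G := by
  have h2 := Nat.prime_two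
  haveI := Fact.mk h2
  set H := cent t with hH
  set R := rad G with hR
  set q := QuotientGroup.mk' R
  obtain ⟨S, hSH⟩ := sylow_le_of_index (p := 2) (H := H) (by
    rw [show H.index = a from ho.hta]; exact ho.odd)
  have hcover : ∀ (r : ℕ) (R0 : Subgroup G), r.Prime → r ≠ 2 → R0 ≤ H → IsPGroup r R0 →
      ¬ r ∣ R0.relIndex H → (∃ k, (normalizer (R0 : Set G)).relIndex H = 2 ^ k) →
      (S : Subgroup G) ≤ centralizer (R0 : Set G) ⊔ R := by
    intro r R0 hr hr2 hR0 hR0p hR0i hNi
    haveI := Fact.mk hr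
    obtain ⟨k, hk⟩ := hNi
    suffices htop : ((centralizer (R0 : Set G) ⊔ R).subgroupOf (S : Subgroup G)) = ⊤ from
      subgroupOf_eq_top.1 htop
    refine ClassIndex.eq_top_of_conj_cover fun u => ?_
    by_cases huR : (u : G) ∈ R
    · refine ⟨1, ?_⟩
      rw [inv_one, one_mul, mul_one]
      exact mem_subgroupOf.2 (mem_sup_right huR)
    have hu2 : IsElt 2 (u : G) := isElt_of_mem S.2 u.2
    have huc : sz (u : G) = c := ho.size 2 u h2 ho.odd hu2 huR
    have hut : t ∈ cent (u : G) := mem_cent_symm (hSH u.2)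
    -- a Sylow `r`-subgroup of `H` centralising `u`
    obtain ⟨U, hUu, hUp, hUc⟩ := ThreeSizes.exists_le_card_cp r (cent (u : G))
    have hUH : U ≤ H := fun v hv => mem_cent_symm
      (h.c_central h2 huc hu2 (hUu hv) ((isElt_of_mem hUp hv).not_dvd hr h2 hr2) hut)
    have hcard : Nat.card (cent (u : G)) * d = Nat.card H := by
      have e1 := sz_mul_card (u : G)
      have e2 := sz_mul_card t
      rw [huc, ho.hd] at e1
      rw [ho.hta] at e2
      refine Nat.eq_of_mul_eq_mul_left (show 0 < a from lt_trans zero_lt_one h.ha) ?_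
      rw [e2, ← e1]; ring
    have hUH' : Nat.card (U.subgroupOf H) = r ^ (Nat.card H).factorization r := by
      rw [Nat.card_congr (subgroupOfEquivOfLe hUH).toEquiv, hUc, ThreeSizes.cp, ← hcard,
        Nat.factorization_mul Nat.card_pos.ne' (by rw [he]; exact pow_ne_zero _ two_ne_zero),
        Finsupp.add_apply, Nat.factorization_eq_zero_of_not_dvd (n := d), add_zero]
      rw [he]
      exact fun hd => hr2 ((Nat.prime_dvd_prime_iff_eq hr h2).1 (hr.dvd_of_dvd_pow hd))
    set PU : Sylow r H := Sylow.ofCard (U.subgroupOf H) hUH' with hPU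
    set P0 : Sylow r H := IsPGroup.toSylow (hR0p.comap_of_injective H.subtype H.subtype_injective) hR0i
    obtain ⟨g, hg⟩ := MulAction.exists_smul_eq H P0 PU
    set N' := (normalizer (R0 : Set G)).subgroupOf H
    set S' := (S : Subgroup G).subgroupOf H
    have hco : N'.index.Coprime S'.index := by
      rw [show N'.index = 2 ^ k from hk]
      exact Nat.Coprime.pow_left _ (h2.coprime_iff_not_dvd.2 fun hd =>
        S.not_dvd_index (hd.trans (Subgroup.relIndex_dvd_index_of_le hSH)))
    obtain ⟨s, hs, n, hn, hgsn⟩ := Solvable.exists_mul_of_coprime_index (H := N') (K := S') hco g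
    refine ⟨⟨(s : G), hs⟩, mem_subgroupOf.2 (mem_sup_left (mem_centralizer_iff.2 fun x hx => ?_))⟩
    have hy : (n : G)⁻¹ * x * n ∈ R0 := by
      have := (mem_normalizer_iff.1 (inv_mem (mem_subgroupOf.1 hn)) x).1 hx
      rwa [inv_inv] at this
    have hmem : (⟨(g : G) * ((n : G)⁻¹ * x * n) * (g : G)⁻¹,
        mul_mem (mul_mem g.2 (hR0 hy)) (inv_mem g.2)⟩ : H) ∈ (PU : Subgroup H) := by
      rw [← hg, Sylow.coe_subgroup_smul, Subgroup.mem_pointwise_smul_iff_inv_smul_mem, MulAut.smul_def,
        MulAut.conj_inv_apply]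
      show (g : G)⁻¹ * ((g : G) * ((n : G)⁻¹ * x * n) * (g : G)⁻¹) * g ∈ R0
      simpa [mul_assoc] using hy
    have hcu : (g : G) * ((n : G)⁻¹ * x * n) * (g : G)⁻¹ ∈ cent (u : G) := hUu hmem
    have hgsn' : (g : G) = (s : G) * n := congrArg Subtype.val hgsn
    have e1 : (g : G) * ((n : G)⁻¹ * x * n) * (g : G)⁻¹ = (s : G) * x * (s : G)⁻¹ := by
      rw [hgsn']; group
    rw [e1] at hcu
    show x * ((s : G)⁻¹ * (u : G) * s) = (s : G)⁻¹ * (u : G) * s * x
    calc x * ((s : G)⁻¹ * (u : G) * s) = (s : G)⁻¹ * ((s : G) * x * (s : G)⁻¹ * u) * s := by group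
      _ = (s : G)⁻¹ * ((u : G) * ((s : G) * x * (s : G)⁻¹)) * s := by rw [mem_cent.1 hcu]
      _ = _ := by group
  by_cases hSR : (S : Subgroup G) ≤ R
  · refine solvable_of_normal (N := R) inferInstance (S0205.result ?_)
    rw [← Subgroup.index_eq_card, ← Nat.not_even_iff_odd, even_iff_two_dvd]
    exact fun hd => S.not_dvd_index (hd.trans (index_dvd_of_le hSR))
  exfalso
  have hS0 : (S : Subgroup G).map q ≠ ⊥ := Solvable.map_mk'_ne_bot hSR
  haveI : Nontrivial ↥((S : Subgroup G).map q) := (Subgroup.nontrivial_iff_ne_bot _).2 hS0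
  have hSp : IsPGroup 2 ↥((S : Subgroup G).map q) := S.2.map q
  haveI := hSp.center_nontrivial
  obtain ⟨jc, hjc⟩ := exists_prime_orderOf_dvd_card' (G := center ↥((S : Subgroup G).map q)) 2 (by
    obtain ⟨i, hi⟩ := IsPGroup.iff_card.1 (hSp.to_subgroup (center _))
    rw [hi]
    refine dvd_pow_self 2 ?_
    rintro rfl
    rw [pow_zero] at hi
    exact (Finite.one_lt_card (α := center ↥((S : Subgroup G).map q))).ne' hi)
  set j : G ⧸ R := ((jc : ↥((S : Subgroup G).map q)) : G ⧸ R) with hj
  have hjo : orderOf j = 2 := by rw [hj, Subgroup.orderOf_coe, Subgroup.orderOf_coe, hjc]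
  have hjS : j ∈ (S : Subgroup G).map q := (jc : ↥((S : Subgroup G).map q)).2
  have hle : H.map q ≤ cent j := by
    rw [map_le_iff_le_comap]
    suffices h1 : ((cent j).comap q).subgroupOf H = ⊤ from subgroupOf_eq_top.1 h1
    rw [← index_eq_one]
    refine Nat.eq_one_iff_not_exists_prime_dvd.2 fun r hr hd => ?_
    rcases eq_or_ne r 2 with rfl | hr2
    · refine S.not_dvd_index (hd.trans (dvd_trans (index_dvd_of_le
        (K := ((cent j).comap q).subgroupOf H) (H := (S : Subgroup G).subgroupOf H) fun x hx => ?_)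
        (Subgroup.relIndex_dvd_index_of_le hSH)))
      refine mem_subgroupOf.2 (mem_comap.2 (mem_cent.2 ?_))
      exact congrArg Subtype.val (mem_center_iff.1 jc.2 ⟨q (x : G), mem_map_of_mem q hx⟩)
    · obtain ⟨R0, hR0, hR0p, hR0i, hNi⟩ := hT.norm r hr hr2
      have hSc := hcover r R0 hr hr2 hR0 hR0p hR0i hNi
      refine hR0i (hd.trans (index_dvd_of_le (K := ((cent j).comap q).subgroupOf H)
        (H := R0.subgroupOf H) fun x hx => ?_))
      refine mem_subgroupOf.2 (mem_comap.2 (mem_cent.2 ?_))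
      obtain ⟨s, hs, hsj⟩ := hjS
      obtain ⟨y, hy, ρ, hρ, rfl⟩ := mem_sup_of_normal_right.1 (hSc hs)
      rw [← hsj, map_mul, show q ρ = 1 from (QuotientGroup.eq_one_iff ρ).2 hρ, mul_one, ← map_mul, ← map_mul,
        mem_centralizer_iff.1 hy (x : G) hx]
  have hjr := (hcc.quot hA ho.le hjo hle).mem_rad
  rw [rad_quotient, mem_bot] at hjr
  rw [hjr, orderOf_one] at hjo
  exact absurd hjo (by decide)

end Cfsg.Agent.CentreFreeThree
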