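import Cfsg.Agent.Lib.CentreFreeThree.EndgameSylow
import Cfsg.Agent.Lib.CentreFreeThree.Count

/-!
# `C(t)` is a TI-subgroup modulo the radical (owner: helper33)

If some prime `r ≠ 2` divides `d`, then a central `r`-element of a Sylow subgroup is central in `C(t)`;
so `C(t) ∩ C(t)^g ≤ rad G` and counting makes the image of `C(t)` or of `A` normal.
-/

set_option autoImplicit false
set_option linter.style.haveILetI false
set_option linter.unusedSectionVars false

open Subgroup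

namespace Cfsg.Agent.CentreFreeThree

open Cfsg.Agent.ClassGraph (sz)
open Cfsg.Agent.ThreeSizes (IsElt mem_cent self_mem mem_cent_symm isElt_of_mem)

universe u

variable {G : Type u} [Group G] [Finite G] {t : G} {A : Subgroup G}

local notation "cent" x:max => Subgroup.centralizer ({x} : Set _)

variable {a b c d : ℕ}

/-- two conjugates of `C(t)` meet in the radical -/
theorem inf_le_rad (h : Sizes G a b c) (ho : Outside G t a c d) (hcc : CC t A)
    (hx : ∀ x : G, sz x = a → x ∈ rad G) (hC : centralizer (rad G : Set G) ≤ rad G)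
    (hle : ∀ x : G, sz x = a → rad G ≤ cent x)
    {r : ℕ} (hr : r.Prime) (hr2 : r ≠ 2) (hrd : r ∣ d) (g : G)
    (hne : cent (g * t * g⁻¹) ≠ cent t) : cent t ⊓ cent (g * t * g⁻¹) ≤ rad G := by
  have h2 := Nat.prime_two
  haveI := Fact.mk hr
  set H := cent t with hH
  set t' := g * t * g⁻¹ with ht'
  have ht'a : sz t' = a := by rw [ht', ClassGraph.sz_conj, ho.hta]
  have ht2 : IsElt 2 t := ⟨1, by rw [hcc.inv, pow_one]⟩
  -- a central element of `H` of order prime to `2`
  have hrH : r ∣ Nat.card H := hrd.trans (dvd_card_cent h ho.hd ho.hta)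
  obtain ⟨P⟩ : Nonempty (Sylow r H) := inferInstance
  obtain ⟨v, hvP, hv1, -, hvr⟩ := exists_sylow_central P hrH
  rw [sz_subtype] at hvr
  obtain ⟨e, he⟩ := isElt_of_mem P.2 hvP
  have hvr' : IsElt r (v : G) := ⟨e, by rw [Subgroup.orderOf_coe, he]⟩
  have hHv : H ≤ cent (v : G) := relIndex_eq_one.1
    ((relIndex_cases h2 ht2 ho.hta h.ha (fun z hz => ho.hd ▸ h.mult_a hz) v.2
      (hvr'.not_dvd hr h2 hr2)).resolve_right fun e => hvr (e.symm ▸ hrd))
  have hva : sz (v : G) = a := h.eq_a_of_dvd (fun e => hv1 (Subtype.ext e)) (ho.hta ▸ sz_dvd_of_le hHv)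
  have hvc : cent (v : G) = H := (cent_eq_of_sz hHv (by rw [ho.hta, hva])).symm
  set v' := g * (v : G) * g⁻¹ with hv'
  have hv'c : cent v' = cent t' := by rw [hv', ht', ThreeSizes.cent_conj, ThreeSizes.cent_conj, hvc]
  have ht'H : t' ∈ H := ho.le (hx t' ht'a)
  -- the order of `H ∩ H'`
  have hcm : cent ((v : G) * t') = H ⊓ cent t' := by
    have hc : t' ∈ cent (v : G) := hvc.symm ▸ ht'H
    rw [ThreeSizes.cent_mul (mem_cent.1 hc).symm (IsElt.coprime hr h2 hr2 hvr' (ht2.conj g)), hvc]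
  have hKc : sz ((v : G) * t') = c := by
    refine (h.mult_a ?_).resolve_left fun e => hne ?_
    · rw [← ho.hta]; exact sz_dvd_of_le (hcm.le.trans inf_le_left)
    · have h3 : cent ((v : G) * t') = H := cent_eq_of_sz (hcm.le.trans inf_le_left) (by rw [e, ho.hta])
      exact (cent_eq_of_sz ((h3.symm.trans hcm).le.trans inf_le_right) (by rw [ho.hta, ht'a])).symm
  intro y hy
  refine Transfer.mem_of_forall_primePow fun l hl w hw ⟨i, hi⟩ => ?_
  have hwK : w ∈ H ⊓ cent t' := (zpowers_le.2 hy) hw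
  by_contra hwR
  have hwl : IsElt l w := ⟨i, hi⟩
  haveI := Fact.mk hl
  have hla : ¬ l ∣ a := by
    intro hd
    refine hwR ?_
    have hco : (orderOf w).Coprime a := Nat.Coprime.coprime_dvd_left (orderOf_dvd_natCard _ hwK.1)
      (by rw [← ho.hta]; exact (hcc.index_cent ▸ hcc.cop.symm : (Nat.card H).Coprime (cent t).index))
    have hi0 : i = 0 := by
      by_contra hi0
      exact hl.ne_one (Nat.eq_one_of_dvd_coprimes hco (hi ▸ dvd_pow_self l hi0) hd)
    rw [hi0, pow_zero, orderOf_eq_one_iff] at hi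
    exact hi ▸ one_mem _
  have hwc : sz w = c := ho.size l w hl hla hwl hwR
  have hsub : cent w ≤ H ⊓ cent t' := by
    rcases eq_or_ne l 2 with rfl | hl2
    · refine le_inf ?_ ?_
      · rw [← hvc]
        exact h.c_central h2 hwc hwl (mem_cent_symm (hvc.symm ▸ hwK.1)) (hvr'.not_dvd hr h2 hr2)
      · rw [← hv'c]
        exact h.c_central h2 hwc hwl (mem_cent_symm (hv'c.symm ▸ hwK.2))
          ((hvr'.conj g).not_dvd hr h2 hr2)
    · exact le_inf (h.c_central hl hwc hwl (mem_cent_symm hwK.1) (ht2.not_dvd h2 hl hl2.symm))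
        (h.c_central hl hwc hwl (mem_cent_symm hwK.2) ((ht2.conj g).not_dvd h2 hl hl2.symm))
  have heq : cent w = H ⊓ cent t' :=
    (cent_eq_of_sz (hsub.trans hcm.ge) (hwc.trans hKc.symm)).trans hcm
  refine hwR (hC (mem_centralizer_iff.2 fun x hxR => ?_))
  have h4 : x ∈ cent w := heq ▸ (⟨ho.le hxR, hle t' ht'a hxR⟩ : x ∈ H ⊓ cent t')
  exact mem_cent.1 h4

theorem solvable_of_ti (h : Sizes G a b c) (ho : Outside G t a c d) (hcc : CC t A)
    (hx : ∀ x : G, sz x = a → x ∈ rad G) (hC : centralizer (rad G : Set G) ≤ rad G)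
    (hle : ∀ x : G, sz x = a → rad G ≤ cent x) (hA : A ⊓ rad G = ⊥)
    {r : ℕ} (hr : r.Prime) (hr2 : r ≠ 2) (hrd : r ∣ d) : Group.IsSolvable G := by
  set H := cent t with hH
  set R := rad G with hR
  set q := QuotientGroup.mk' R with hq
  set A' := A.map q with hA'
  set H' := H.map q with hH'
  haveI : Group.IsSolvable H := hcc.solv
  haveI : Group.IsSolvable H' := Solvable.isSolvable_map q H
  have hA'c : Nat.card A' = Nat.card A := hcc.card_map hA
  have hAa : Nat.card A = a := hcc.index_cent.symm.trans ho.hta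
  have hG : Nat.card H' * Nat.card A' = Nat.card (G ⧸ R) := by
    refine Nat.eq_of_mul_eq_mul_right (Nat.card_pos (α := R)) ?_
    rw [hA'c, mul_comm (Nat.card H'), mul_assoc, hcc.card_map_cent ho.le, hcc.prod]
    exact Subgroup.card_eq_card_quotient_mul_card_subgroup R
  have hHidx : H'.index = a := by
    rw [← hAa, ← hA'c]
    exact Nat.eq_of_mul_eq_mul_left (Nat.card_pos (α := H')) (H'.card_mul_index.trans hG.symm)
  have hAidx : A'.index = Nat.card H' :=
    Nat.eq_of_mul_eq_mul_left (Nat.card_pos (α := A')) (A'.card_mul_index.trans (by rw [← hG, mul_comm]))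
  have hH'dvd : Nat.card H' ∣ Nat.card H :=
    ⟨Nat.card R, (hcc.card_map_cent ho.le).symm⟩
  have hcoH : (Nat.card H').Coprime a :=
    Nat.Coprime.coprime_dvd_left hH'dvd (hAa ▸ hcc.cop.symm)
  have hcentA' : ∀ {z : G ⧸ R}, z ∈ A' → z ≠ 1 → cent z = A' := fun hz h1 => hcc.cent_map hA hz h1
  -- the two subgroups
  have hTIA : ∀ g : G ⧸ R, g ∈ normalizer (A' : Set (G ⧸ R)) ∨ ∀ x ∈ A', g * x * g⁻¹ ∈ A' → x = 1 := by
    intro g
    by_cases hg : ∀ x ∈ A', g * x * g⁻¹ ∈ A' → x = 1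
    · exact Or.inr hg
    push Not at hg
    obtain ⟨x, hxA, hgx, hx1⟩ := hg
    left
    rw [PLocal.mem_normalizer_iff_map_eq]
    conv_lhs => rw [← hcentA' hxA hx1, ← ThreeSizes.cent_conj]
    exact hcentA' hgx fun e => hx1 (conj_eq_one_iff.1 e)
  have hTIH : ∀ g : G ⧸ R, g ∈ normalizer (H' : Set (G ⧸ R)) ∨ ∀ x ∈ H', g * x * g⁻¹ ∈ H' → x = 1 := by
    intro g
    obtain ⟨g, rfl⟩ := QuotientGroup.mk'_surjective R g
    by_cases hg : cent (g * t * g⁻¹) = H
    · left
      refine le_normalizer_map q ⟨g, ?_, rfl⟩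
      exact PLocal.mem_normalizer_iff_map_eq.2 (by rw [← ThreeSizes.cent_conj]; exact hg)
    right
    rintro _ ⟨y, hy, rfl⟩ hgy
    rw [← map_inv, ← map_mul, ← map_mul] at hgy
    have h1 : g * y * g⁻¹ ∈ H := by
      obtain ⟨w, hw, hwe⟩ := hgy
      have h2 : w⁻¹ * (g * y * g⁻¹) ∈ R := QuotientGroup.eq.1 hwe
      have := mul_mem hw (ho.le h2)
      rwa [mul_inv_cancel_left] at this
    have h2 : g * y * g⁻¹ ∈ cent (g * t * g⁻¹) := by
      rw [ThreeSizes.cent_conj]; exact ⟨y, hy, rfl⟩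
    have h3 : g * y * g⁻¹ ∈ R := inf_le_rad h ho hcc hx hC hle hr hr2 hrd g hg ⟨h1, h2⟩
    exact (QuotientGroup.eq_one_iff y).2 (mem_rad_of_conj h3)
  have hdisj : ∀ (x g : G ⧸ R), x ∈ H' → g * x * g⁻¹ ∈ A' → x = 1 := by
    intro x g hxH hgx
    refine orderOf_eq_one_iff.1 (Nat.eq_one_of_dvd_coprimes hcoH (orderOf_dvd_natCard _ hxH) ?_)
    have h1 := orderOf_dvd_natCard _ hgx
    rwa [show g * x * g⁻¹ = MulAut.conj g x from rfl, MulEquiv.orderOf_eq, hA'c, hAa] at h1
  have hcov : ∀ y : G ⧸ R, ∃ g : G ⧸ R, g * y * g⁻¹ ∈ H' ∨ g * y * g⁻¹ ∈ A' := by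
    intro y
    rcases eq_or_ne y 1 with rfl | hy
    · exact ⟨1, Or.inl (by simp)⟩
    obtain ⟨l, hl, hld⟩ := Nat.exists_prime_and_dvd (show orderOf y ≠ 1 from fun e => hy (orderOf_eq_one_iff.1 e))
    haveI := Fact.mk hl
    set w := y ^ (orderOf y / l) with hw
    have hwo : orderOf w = l := by
      rw [hw, orderOf_pow_of_dvd (Nat.div_pos (Nat.le_of_dvd (orderOf_pos y) hld) hl.pos).ne'
        (Nat.div_dvd_of_dvd hld), Nat.div_div_self hld (orderOf_pos y).ne']
    have hwe : IsElt l w := ⟨1, by rw [hwo, pow_one]⟩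
    have hwne : ∀ g : G ⧸ R, g * w * g⁻¹ ≠ 1 := fun g e => hl.ne_one
      (hwo ▸ orderOf_eq_one_iff.2 (conj_eq_one_iff.1 e))
    have hyw : ∀ g : G ⧸ R, g * y * g⁻¹ ∈ cent (g * w * g⁻¹) := fun g => mem_cent.2
      (((Commute.refl y).pow_right _).map (MulAut.conj g).toMonoidHom).eq
    by_cases hla : l ∣ a
    · obtain ⟨g, hg⟩ := exists_conj_mem_of_index (H := A') hl (fun hd => hl.ne_one
        (Nat.eq_one_of_dvd_coprimes hcoH (hAidx ▸ hd) hla)) hwe
      exact ⟨g, Or.inr (hcentA' hg (hwne g) ▸ hyw g)⟩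
    obtain ⟨g, hg⟩ := exists_conj_mem_of_index (H := H') hl (by rwa [hHidx]) hwe
    refine ⟨g, Or.inl ?_⟩
    set y' := g * y * g⁻¹
    set w' := g * w * g⁻¹
    have hyN : y' ∈ normalizer (H' : Set (G ⧸ R)) := by
      refine (hTIH y').resolve_right fun h1 => hwne g (h1 w' hg ?_)
      rw [mem_cent.1 (hyw g), mul_inv_cancel_right]
      exact hg
    have hco : (orderOf y').Coprime a := by
      refine Nat.coprime_of_dvd fun p hp h1 h2 => ?_
      haveI := Fact.mk hp
      set z := y' ^ (orderOf y' / p) with hz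
      have hzo : orderOf z = p := by
        rw [hz, orderOf_pow_of_dvd (Nat.div_pos (Nat.le_of_dvd (orderOf_pos y') h1) hp.pos).ne'
          (Nat.div_dvd_of_dvd h1), Nat.div_div_self h1 (orderOf_pos y').ne']
      obtain ⟨g', hg'⟩ := exists_conj_mem_of_index (H := A') hp (fun hd => hp.ne_one
        (Nat.eq_one_of_dvd_coprimes hcoH (hAidx ▸ hd) h2)) (x := z) ⟨1, by rw [hzo, pow_one]⟩
      have hz1 : g' * z * g'⁻¹ ≠ 1 := fun e => hp.ne_one (hzo ▸ orderOf_eq_one_iff.2 (conj_eq_one_iff.1 e))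
      have hwz : g' * w' * g'⁻¹ ∈ A' := hcentA' hg' hz1 ▸ mem_cent.2
        (((show Commute w' y' from (mem_cent.1 (hyw g)).symm).pow_right _).map
          (MulAut.conj g').toMonoidHom).eq
      exact hwne g (hdisj w' g' hg hwz)
    have hpow : y' ^ a ∈ H' := by
      haveI : (H'.subgroupOf (normalizer (H' : Set (G ⧸ R)))).Normal := Subgroup.normal_in_normalizer
      have h1 := pow_index_mem (H'.subgroupOf (normalizer (H' : Set (G ⧸ R)))) ⟨y', hyN⟩
      obtain ⟨i, hi⟩ : H'.relIndex (normalizer (H' : Set (G ⧸ R))) ∣ a :=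
        hHidx ▸ relIndex_dvd_index_of_le le_normalizer
      rw [hi, pow_mul]
      exact pow_mem h1 i
    exact Coprime.mem_of_pow_mem hco hpow
  have hA0 : A' ≠ ⊥ := fun e => hcc.ne_bot (Subgroup.card_eq_one.1 (hA'c ▸ (e ▸ Subgroup.card_bot)))
  haveI hA'sol : Group.IsSolvable A' := Group.isSolvable_of_comm fun x y => by
    obtain ⟨x', hx', hx''⟩ := x.2
    obtain ⟨y', hy', hy''⟩ := y.2
    refine Subtype.ext ?_
    show (x : G ⧸ R) * y = y * x
    rw [← hx'', ← hy'', ← map_mul, ← map_mul, (hcc.comm x' hx' y' hy').eq]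
  have htop : A' ⊔ H' = ⊤ := by
    rw [← index_eq_one]
    refine Nat.eq_one_of_dvd_coprimes hcoH ?_ (hHidx ▸ index_dvd_of_le le_sup_right)
    exact hAidx ▸ index_dvd_of_le le_sup_left
  by_cases hH0 : H' = ⊥
  · refine solvable_of_normal (N := R) inferInstance ?_
    rw [hH0, sup_bot_eq] at htop
    rw [htop] at hA'sol
    exact Group.isSolvable_of_surjective
      (show Function.Surjective (Subgroup.topEquiv (G := G ⧸ R)).toMonoidHom from
        Subgroup.topEquiv.surjective)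
  have hsolv : Group.IsSolvable (G ⧸ R) := by
    rcases normal_or_normal hH0 hA0 hG hTIH hTIA hdisj hcov with hn | hn
    · exact solvable_of_sup hA'sol inferInstance htop
    · exact solvable_of_sup (H := H') (N := A') inferInstance hA'sol (sup_comm A' H' ▸ htop)
  exact solvable_of_normal inferInstance hsolv

end Cfsg.Agent.CentreFreeThree
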