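import Cfsg.Agent.Lib.CentreFreeThree.Both
import Cfsg.Agent.Lib.Coprime.Generation
import Cfsg.Agent.Lib.BSW.Basic

/-!
# `b` divides no other size: solvable, or an abelian CC-subgroup complementary to `C(t)`
(owner: helper33)
-/

set_option autoImplicit false
set_option linter.style.haveILetI false
set_option linter.unusedSectionVars false

open Subgroup

namespace Cfsg.Agent.CentreFreeThree

open Cfsg.Agent.ClassGraph (sz cls)
open Cfsg.Agent.ThreeSizes (IsElt mem_cent self_mem mem_cent_symm isElt_of_mem)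

variable {G : Type*} [Group G] [Finite G]

local notation "cent" x:max => Subgroup.centralizer ({x} : Set _)

/-- `A` is abelian, the centraliser of each of its nontrivial elements, and complements `C(t)`. -/
structure CC (t : G) (A : Subgroup G) : Prop where
  inv : orderOf t = 2
  comm : ∀ x ∈ A, ∀ y ∈ A, Commute x y
  ne_bot : A ≠ ⊥
  cop : (Nat.card A).Coprime (Nat.card (Subgroup.centralizer ({t} : Set G)))
  prod : Nat.card A * Nat.card (Subgroup.centralizer ({t} : Set G)) = Nat.card G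
  centA : ∀ z ∈ A, z ≠ 1 → Subgroup.centralizer ({z} : Set G) = A
  solv : Group.IsSolvable (Subgroup.centralizer ({t} : Set G))

variable {a b c : ℕ}

theorem Sizes.b_min (h : Sizes G a b c) (hbc : ¬ b ∣ c) {y w : G} (hy : sz y = b)
    (hle : cent w ≤ cent y) : cent w = cent y := by
  refine cent_eq_of_sz hle ?_
  have hd : b ∣ sz w := hy ▸ sz_dvd_of_le hle
  rcases eq_or_ne w 1 with rfl | hw
  · rw [sz_one, Nat.dvd_one] at hd
    have := h.hb; omega
  rcases h.size w hw with e | e | e <;> rw [e] at hd ⊢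
  exacts [absurd hd h.b_not_dvd_a, hy.symm, absurd hd hbc]

theorem Sizes.b_max (h : Sizes G a b c) {y w : G} (hy : sz y = b) (hw : w ≠ 1)
    (hle : cent y ≤ cent w) : cent w = cent y :=
  (cent_eq_of_sz hle (hy.trans (h.eq_b_of_dvd hw (hy ▸ sz_dvd_of_le hle)).symm)).symm

theorem Sizes.c_min (h : Sizes G a b c) {y w : G} (hy : sz y = c) (hle : cent w ≤ cent y) :
    cent w = cent y :=
  cent_eq_of_sz hle (by rw [hy]; exact h.eq_c_of_dvd (hy ▸ sz_dvd_of_le hle))

theorem Sizes.coprime_central (h : Sizes G a b c) (hbc : ¬ b ∣ c) {s : ℕ} (hs : s.Prime) {y v : G}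
    (hy : sz y = b) (hys : IsElt s y) (hv : v ∈ cent y) (hvs : ¬ s ∣ orderOf v) :
    cent y ≤ cent v := by
  have hcm : cent (y * v) = cent y ⊓ cent v :=
    ThreeSizes.cent_mul (mem_cent.1 hv).symm (hys.coprime_order hs hvs)
  exact inf_eq_left.1 (hcm.symm.trans (h.b_min hbc hy (hcm.le.trans inf_le_left)))

theorem Sizes.comm_or_pGroup (h : Sizes G a b c) (hbc : ¬ b ∣ c) {s : ℕ} (hs : s.Prime) {y : G}
    (hy : sz y = b) (hys : IsElt s y) :
    IsPGroup s (cent y) ∨ ∀ u ∈ cent y, ∀ v ∈ cent y, Commute u v := by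
  haveI := Fact.mk hs
  by_cases hall : ∀ l : ℕ, l.Prime → l ∣ Nat.card (cent y) → l = s
  · left
    exact IsPGroup.of_card (Nat.eq_prime_pow_of_unique_prime_dvd Nat.card_pos.ne' fun {l} hl => hall l hl)
  push Not at hall
  obtain ⟨l, hl, hld, hls⟩ := hall
  haveI := Fact.mk hl
  obtain ⟨⟨v, hv⟩, hvo⟩ := exists_prime_orderOf_dvd_card' (G := cent y) l hld
  rw [Subgroup.orderOf_mk] at hvo
  have hv1 : v ≠ 1 := fun e => by rw [e, orderOf_one] at hvo; exact hl.ne_one hvo.symm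
  have hvl : IsElt l v := ⟨1, by rw [hvo, pow_one]⟩
  have hvy : cent v = cent y :=
    h.b_max hy hv1 (h.coprime_central hbc hs hy hys hv (hvl.not_dvd hl hs hls))
  have hvb : sz v = b := by rw [sz, hvy]; exact hy
  right
  intro u hu w hw
  obtain ⟨u1, u2, rfl, -, hu1, hu2, hu1s, hu2s⟩ := ThreeSizes.exists_parts hs u
  have h1 : cent y ≤ cent u1 := hvy ▸ h.coprime_central hbc hl hvb hvl
    (hvy.symm ▸ (zpowers_le.2 hu) hu1) (hu1s.not_dvd hs hl (Ne.symm hls))
  have h2 : cent y ≤ cent u2 := h.coprime_central hbc hs hy hys ((zpowers_le.2 hu) hu2) hu2s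
  exact ((show Commute w u1 from mem_cent.1 (h1 hw)).mul_right (show Commute w u2 from mem_cent.1 (h2 hw))).symm

/-! ### Some centre element has a `p`-group as centraliser -/

section PGroupCase

variable {p : ℕ} [hpf : Fact p.Prime] {t z : G}

theorem Sizes.sylow_of_cent (h : Sizes G a b c) (hpa : p ∣ a) {n : G} (hn : sz n = b)
    (hnp : IsPGroup p (cent n)) : ∃ P : Sylow p G, (P : Subgroup G) = cent n := by
  have hidx : ¬ p ∣ (cent n).index := fun hd => hpf.out.ne_one
    (Nat.eq_one_of_dvd_coprimes h.cop hpa ((show (cent n).index = b from hn) ▸ hd))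
  obtain ⟨P, hP⟩ := sylow_le_of_index hidx
  exact ⟨P, (P.3 hnp hP).symm⟩

theorem Sizes.exists_center_conj (h : Sizes G a b c) (hpa : p ∣ a) (hz : sz z = b) (hzp : IsElt p z)
    (hC : IsPGroup p (cent z)) {u : G} (hu : IsElt p u) :
    ∃ z' : G, sz z' = b ∧ IsElt p z' ∧ IsPGroup p (cent z') ∧ u ∈ cent z' := by
  obtain ⟨P, hP⟩ := h.sylow_of_cent hpa hz hC
  obtain ⟨g, hg⟩ := exists_conj_mem_sylow P hu
  rw [hP] at hg
  refine ⟨g⁻¹ * z * (g⁻¹)⁻¹, by rw [ClassGraph.sz_conj, hz], hzp.conj _, ?_, ?_⟩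
  · rw [ThreeSizes.cent_conj]; exact hC.map _
  · rw [ThreeSizes.cent_conj]
    exact ⟨_, hg, by simp [mul_assoc]⟩

theorem Sizes.pGroup_cent_of_b (h : Sizes G a b c) (hbc : ¬ b ∣ c) (hpa : p ∣ a) (hz : sz z = b)
    (hzp : IsElt p z) (hC : IsPGroup p (cent z)) {n : G} (hnp : IsElt p n) (hnb : sz n = b) :
    IsPGroup p (cent n) := by
  refine (h.comm_or_pGroup hbc hpf.out hnb hnp).elim id fun hcomm => ?_
  obtain ⟨z', hz'b, -, hC', hnz⟩ := h.exists_center_conj hpa hz hzp hC hnp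
  refine IsPGroup.of_card (Nat.eq_prime_pow_of_unique_prime_dvd Nat.card_pos.ne' fun {l} hl hld => ?_)
  by_contra hlp
  haveI := Fact.mk hl
  obtain ⟨⟨v, hv⟩, hvo⟩ := exists_prime_orderOf_dvd_card' (G := cent n) l hld
  rw [Subgroup.orderOf_mk] at hvo
  have hvz : v ∈ cent z' := mem_cent.2 (hcomm v hv z' (mem_cent_symm hnz)).eq
  obtain ⟨k, hk⟩ := IsPGroup.iff_orderOf.1 hC' ⟨v, hvz⟩
  rw [Subgroup.orderOf_mk, hvo] at hk
  exact hlp ((Nat.prime_dvd_prime_iff_eq hl hpf.out).1 (hl.dvd_of_dvd_pow (dvd_of_eq hk)))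

theorem isSolvable_of_two_case (h : Sizes G a b c) (ht : orderOf t = 2) (hta : sz t = a) {i : ℕ}
    (hi : a = 2 ^ i) : Group.IsSolvable G := by
  obtain ⟨d, hd⟩ := h.hac
  have h2 := Nat.prime_two
  have hl2 : ∀ {l : ℕ}, l.Prime → l ≠ 2 → ¬ l ∣ (cent t).index := fun hl hne hd =>
    hne ((Nat.prime_dvd_prime_iff_eq hl h2).1 (hl.dvd_of_dvd_pow (hi ▸ (show (cent t).index = a from hta) ▸ hd)))
  have hcen : ∀ {v : G}, v ≠ 1 → ∀ g : G, cent t ≤ cent (g * v * g⁻¹) → v ∈ rad G := fun hv g hle =>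
    mem_rad_of_conj (mem_rad_of_sz h2 ((h.eq_a_of_dvd (fun e => hv (conj_eq_one_iff.1 e))
      (hta ▸ sz_dvd_of_le hle)).trans hi))
  rcases (h.tri hd h2 (x := t) ⟨1, by rw [ht, pow_one]⟩ hta).cases with
    h0 | ⟨W, hWH, hWc, -, ⟨k, hk⟩, -⟩ | ⟨r, hr, -, hcore, -⟩
  · refine solvable_of_elts_one h2 fun l hl hne v hv => ?_
    rcases eq_or_ne v 1 with rfl | hv1
    · exact one_mem _
    obtain ⟨g, hg⟩ := exists_conj_mem_of_index hl (hl2 hl hne) hv
    exact hcen hv1 g (h0 _ hg ((hv.conj g).not_dvd hl h2 hne))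
  · have hWi : W.index = 2 ^ (k + i) := by
      rw [← Subgroup.relIndex_mul_index hWH, hk, show (cent t).index = a from hta, hi, pow_add]
    refine solvable_of_elts_one h2 fun l hl hne v hv => ?_
    obtain ⟨g, hg⟩ := exists_conj_mem_of_index (H := W) hl (fun hd => hne
      ((Nat.prime_dvd_prime_iff_eq hl h2).1 (hl.dvd_of_dvd_pow (hWi ▸ hd)))) hv
    have hle : W ≤ cent (g * v * g⁻¹) := fun w hw =>
      mem_cent.2 (congrArg Subtype.val (hWc.is_comm.comm ⟨w, hw⟩ ⟨_, hg⟩))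
    obtain ⟨j, -, hj⟩ := (Nat.dvd_prime_pow h2).1 (hWi ▸ index_dvd_of_le hle)
    exact mem_rad_of_conj (mem_rad_of_sz h2 (k := j) hj)
  · refine solvable_of_elts h2 hr fun l hl hne hnr v hv => ?_
    rcases eq_or_ne v 1 with rfl | hv1
    · exact one_mem _
    obtain ⟨g, hg⟩ := exists_conj_mem_of_index hl (hl2 hl hne) hv
    exact hcen hv1 g (hcore l hl hne hnr _ hg (hv.conj g))

theorem cent_commute_of_eq {z : G} {C : Subgroup G} (hC : ∀ x ∈ C, x ≠ 1 → cent x = C) (hz : z ∈ C) :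
    ∀ y ∈ C, Commute z y := fun y hy => by
  rcases eq_or_ne z 1 with rfl | hz1
  · exact Commute.one_left y
  · exact (mem_cent.1 ((hC z hz hz1).ge hy) : Commute y z).symm

theorem pCase (h : Sizes G a b c) (hbc : ¬ b ∣ c) (ht : orderOf t = 2) (hta : sz t = a) (hpa : p ∣ a)
    (hz : sz z = b) (hzp : IsElt p z) (hC : IsPGroup p (cent z)) :
    Group.IsSolvable G ∨ ∃ A : Subgroup G, CC t A := by
  obtain ⟨e, he⟩ := IsPGroup.iff_card.1 hC
  have hG : b * p ^ e = Nat.card G := by rw [← he, ← hz]; exact sz_mul_card z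
  obtain ⟨i, -, hi⟩ := (Nat.dvd_prime_pow hpf.out).1
    (h.cop.dvd_of_dvd_mul_left (hG ▸ hta ▸ sz_dvd_card t))
  rcases eq_or_ne p 2 with rfl | hp2
  · exact Or.inl (isSolvable_of_two_case h ht hta hi)
  obtain ⟨d, hd⟩ := h.hac
  have htr : t ∈ rad G := mem_rad_of_sz hpf.out (hta.trans hi)
  have ht2 : IsElt 2 t := ⟨1, by rw [ht, pow_one]⟩
  have hT := h.tri hd Nat.prime_two ht2 hta
  have htp : ∀ {n : G}, IsPGroup p (cent n) → t ∉ cent n := fun {n} hn htn => by
    obtain ⟨k, hk⟩ := IsPGroup.iff_orderOf.1 hn ⟨t, htn⟩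
    rw [Subgroup.orderOf_mk, ht] at hk
    exact hp2 ((Nat.prime_dvd_prime_iff_eq Nat.prime_two hpf.out).1
      (Nat.prime_two.dvd_of_dvd_pow (dvd_of_eq hk))).symm
  by_cases h0 : AllCentral (cent t) 2
  · left
    refine solvable_of_elts Nat.prime_two hpf.out fun l hl hne hnp v hv => ?_
    rcases eq_or_ne v 1 with rfl | hv1
    · exact one_mem _
    obtain ⟨g, hg⟩ := exists_conj_mem_of_index (H := cent t) hl (fun hd => hnp
      ((Nat.prime_dvd_prime_iff_eq hl hpf.out).1
        (hl.dvd_of_dvd_pow (hi ▸ (show (cent t).index = a from hta) ▸ hd)))) hv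
    exact mem_rad_of_conj (mem_rad_of_sz hpf.out ((h.eq_a_of_dvd (fun e => hv1 (conj_eq_one_iff.1 e))
      (hta ▸ sz_dvd_of_le (h0 _ hg ((hv.conj g).not_dvd hl Nat.prime_two hne)))).trans hi))
  -- an element of size `c` with centraliser of even order
  simp only [AllCentral] at h0
  push Not at h0
  obtain ⟨v0, hv0, hv0o, hv0c⟩ := h0
  have hcm : cent (t * v0) = cent t ⊓ cent v0 :=
    ThreeSizes.cent_mul (mem_cent.1 hv0).symm (ht2.coprime_order Nat.prime_two hv0o)
  have hwc : sz (t * v0) = c := (h.mult_a (hta ▸ sz_dvd_of_le (hcm.le.trans inf_le_left))).resolve_left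
    fun e => hv0c ((cent_eq_of_sz (hcm.le.trans inf_le_left) (e.trans hta.symm)).ge.trans
      (hcm.le.trans inf_le_right))
  have heven : 2 ∣ Nat.card (cent (t * v0)) := by
    have h1 : t ∈ cent (t * v0) := hcm.ge ⟨self_mem t, mem_cent_symm hv0⟩
    exact ht ▸ orderOf_dvd_natCard _ h1
  have hno : ∀ u : G, IsElt p u → sz u ≠ c := by
    intro u hu huc
    have hcard : Nat.card (cent u) = Nat.card (cent (t * v0)) := by
      refine Nat.eq_of_mul_eq_mul_left (show 0 < c by have := h.hc; omega) ?_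
      calc c * Nat.card (cent u) = Nat.card G := huc ▸ sz_mul_card u
        _ = _ := (hwc ▸ sz_mul_card (t * v0)).symm
    obtain ⟨⟨j, hju⟩, hjo⟩ := exists_prime_orderOf_dvd_card' (G := cent u) 2 (hcard ▸ heven)
    rw [Subgroup.orderOf_mk] at hjo
    have hcmu : cent (u * j) = cent u ⊓ cent j :=
      ThreeSizes.cent_mul (mem_cent.1 hju).symm (hu.coprime_order hpf.out (by
        rw [hjo]; exact fun hd => hp2 ((Nat.prime_dvd_prime_iff_eq hpf.out Nat.prime_two).1 hd)))
    have hle : cent u ≤ cent j :=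
      (h.c_min huc (hcmu.le.trans inf_le_left)).ge.trans (hcmu.le.trans inf_le_right)
    obtain ⟨z', -, -, hC', huz⟩ := h.exists_center_conj hpa hz hzp hC hu
    have hjz : j ∈ cent z' := mem_cent_symm (hle (mem_cent_symm huz))
    obtain ⟨k, hk⟩ := IsPGroup.iff_orderOf.1 hC' ⟨j, hjz⟩
    rw [Subgroup.orderOf_mk, hjo] at hk
    exact hp2 ((Nat.prime_dvd_prime_iff_eq Nat.prime_two hpf.out).1
      (Nat.prime_two.dvd_of_dvd_pow (dvd_of_eq hk))).symm
  have hsize : ∀ u : G, IsElt p u → u ≠ 1 → sz u = a ∨ sz u = b := fun u hu hu1 =>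
    (h.size u hu1).imp_right fun e => e.resolve_right (hno u hu)
  have hpb : ∀ n : G, IsElt p n → sz n = b → IsPGroup p (cent n) := fun n hn hnb =>
    h.pGroup_cent_of_b hbc hpa hz hzp hC hn hnb
  by_cases hα : ∃ u : G, IsElt p u ∧ sz u = a
  · left
    obtain ⟨u, hu, hua⟩ := hα
    -- the conjugates of an element of size `a` generate a normal `p`-subgroup
    have hclos : ∀ w : G, IsElt p w → sz w = a → IsPGroup p (normalClosure ({w} : Set G)) := by
      intro w hw hwa
      obtain ⟨z', hz'b, -, hC', hwz⟩ := h.exists_center_conj hpa hz hzp hC hw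
      refine hC'.to_le ((closure_le _).2 fun x hx => ?_)
      obtain ⟨_, h1, h2⟩ := Group.mem_conjugatesOfSet_iff.1 hx
      rw [Set.mem_singleton_iff] at h1
      subst h1
      obtain ⟨g, rfl⟩ := isConj_iff.1 h2
      refine mem_cent.2 ?_
      simpa using (conj_commute_of_coprime (by rw [hwa, hz'b]; exact h.cop) (mem_cent.1 hwz) g 1).eq
    have hall : ∀ w : G, IsElt p w → w ∈ rad G := by
      intro w hw
      rcases eq_or_ne w 1 with rfl | hw1
      · exact one_mem _
      rcases hsize w hw hw1 with hwa | hwb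
      · exact le_rad normalClosure_normal (Solvable.isSolvable_of_isPGroup (hclos w hw hwa))
          (subset_normalClosure (Set.mem_singleton w))
      have hU := hclos u hu hua
      obtain ⟨P, hP⟩ := h.sylow_of_cent hpa hwb (hpb w hw hwb)
      have huU : u ∈ normalClosure ({u} : Set G) := subset_normalClosure (Set.mem_singleton u)
      have huw : u ∈ cent w := by
        rw [← hP, ← P.3 (P.2.to_sup_of_normal_right hU) le_sup_left]
        exact mem_sup_right huU
      have hco : (sz u).Coprime (sz w) := by rw [hua, hwb]; exact h.cop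
      obtain ⟨k1, hk1⟩ := hu.pow_eq_one
      obtain ⟨k2, hk2⟩ := hw.pow_eq_one
      have huw' : Commute u w := mem_cent.1 huw
      have hprod : IsElt p (u * w) := isElt_of_dvd_pow hpf.out (k := k1 + k2)
        (orderOf_dvd_of_pow_eq_one (by
          rw [huw'.mul_pow, pow_add, pow_mul, hk1, one_pow, one_mul, mul_comm, pow_mul, hk2, one_pow]))
      have hl1 := TwoLargest.le_sz_mul_left hco
      have hl2 := TwoLargest.le_sz_mul_right hco
      rw [hua] at hl1; rw [hwb] at hl2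
      have hne : u * w ≠ 1 := ne_one_of_sz (lt_of_lt_of_le h.ha hl1)
      rcases h.a_ne_b.lt_or_gt with hab | hab
      · exfalso
        have hs : sz (u * w) = b := (hsize _ hprod hne).resolve_left fun e => by omega
        refine ne_one_of_sz (hua ▸ h.ha : 1 < sz u) ?_
        rw [← mem_bot, ← h.center, mem_center_iff]
        intro g
        have h1 := TwoLargest.trans_mem hco (by rw [hs, hwb]) g
        have hmem : u⁻¹ * (g * u * g⁻¹) ∈ normalClosure ({u} : Set G) :=
          mul_mem (inv_mem huU) (normalClosure_normal.conj_mem u huU g)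
        have h2 : u⁻¹ * (g * u * g⁻¹) = 1 := by
          obtain ⟨k, hk⟩ := IsPGroup.iff_orderOf.1 hU ⟨_, hmem⟩
          rw [Subgroup.orderOf_mk] at hk
          refine orderOf_eq_one_iff.1 (Nat.eq_one_of_dvd_coprimes ?_ (dvd_of_eq hk)
            ((orderOf_dvd_natCard _ h1).trans (ClassGraph.card_stab_dvd w)))
          rw [hwb]
          exact Nat.Coprime.pow_left _ ((hpf.out.coprime_iff_not_dvd).2 fun hd =>
            hpf.out.ne_one (Nat.eq_one_of_dvd_coprimes h.cop hpa hd))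
        exact mul_inv_eq_iff_eq_mul.1 (inv_mul_eq_one.1 h2).symm
      · have hs : sz (u * w) = a := (hsize _ hprod hne).resolve_right fun e => by omega
        exact mem_rad_of_conj_commute (conj_commute_self hco.symm (by rw [← huw'.eq, hs, hua]))
    refine solvable_of_sup (H := cent t) (N := rad G) hT.solv inferInstance ?_
    obtain ⟨P⟩ : Nonempty (Sylow p G) := inferInstance
    have hPR : (P : Subgroup G) ≤ rad G := fun x hx => hall x (isElt_of_mem P.2 hx)
    rw [← index_eq_one]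
    refine Nat.eq_one_of_dvd_coprimes ((Nat.Coprime.pow_left i
      ((hpf.out.coprime_iff_not_dvd).2 P.not_dvd_index))) ?_ (index_dvd_of_le (hPR.trans le_sup_right))
    rw [← hi, ← hta]
    exact index_dvd_of_le le_sup_left
  -- every nontrivial `p`-element has size `b`
  push Not at hα
  have hnb : ∀ n : G, IsElt p n → n ≠ 1 → sz n = b := fun n hn h1 =>
    (hsize n hn h1).resolve_left (hα n hn)
  have hpH : ¬ p ∣ Nat.card (cent t) := fun hd => by
    obtain ⟨⟨n, hnt⟩, hno'⟩ := exists_prime_orderOf_dvd_card' (G := cent t) p hd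
    rw [Subgroup.orderOf_mk] at hno'
    have hn1 : n ≠ 1 := fun e => by rw [e, orderOf_one] at hno'; exact hpf.out.ne_one hno'.symm
    have hne : IsElt p n := ⟨1, by rw [hno', pow_one]⟩
    exact htp (hpb n hne (hnb n hne hn1)) (mem_cent_symm hnt)
  have hfree : ∀ n : G, IsElt p n → n ≠ 1 → ∀ x : G, IsPGroup p (cent n) ∧ (x ∈ cent n → IsElt p x) :=
    fun n hn h1 x => ⟨hpb n hn (hnb n hn h1), fun hx => isElt_of_mem (hpb n hn (hnb n hn h1)) hx⟩
  by_cases hcore : ∃ N : Subgroup G, N.Normal ∧ IsPGroup p N ∧ N ≠ ⊥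
  · left
    obtain ⟨N, hNn, hNp, hN0⟩ := hcore
    obtain ⟨n, hnN, hn1⟩ := (bot_or_exists_ne_one N).resolve_left hN0
    haveI := hNn
    set M := centralizer (N : Set G) with hM
    have hMp : IsPGroup p M := (hfree n (isElt_of_mem hNp hnN) hn1 1).1.to_le fun x hx =>
      mem_cent.2 (mem_centralizer_iff.1 hx n hnN).symm
    haveI : M.Normal := Subgroup.normal_centralizer
    have hinv : ∀ g : G, ∀ x ∈ N, g * t * g⁻¹ * x * (g * t * g⁻¹)⁻¹ = x⁻¹ := by
      intro g
      refine (BSW.inverts_of_free N (u := g * t * g⁻¹) ?_ (fun x hx => hNn.conj_mem x hx _) ?_).1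
      · rw [show g * t * g⁻¹ * (g * t * g⁻¹) = g * (t * t) * g⁻¹ by group, ← pow_two,
          orderOf_dvd_iff_pow_eq_one.1 (ht.symm ▸ dvd_rfl : orderOf t ∣ 2), mul_one, mul_inv_cancel]
      · intro x hx hcomm
        by_contra hx1
        refine htp (n := g⁻¹ * x * (g⁻¹)⁻¹) ?_ ?_
        · rw [ThreeSizes.cent_conj]; exact (hfree x (isElt_of_mem hNp hx) hx1 1).1.map _
        · rw [ThreeSizes.cent_conj]
          exact ⟨g * t * g⁻¹, mem_cent.2 hcomm, by simp [mul_assoc]⟩
    refine solvable_of_sup (H := cent t) (N := M) hT.solv (Solvable.isSolvable_of_isPGroup hMp) ?_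
    refine eq_top_iff.2 fun g _ => ?_
    set w := t⁻¹ * (g * t * g⁻¹) with hw
    have ht1 : ∀ x ∈ N, t * x * t⁻¹ = x⁻¹ := by simpa using hinv 1
    have htt : t⁻¹ = t := inv_eq_of_mul_eq_one_right (by
      rw [← pow_two, ← ht, pow_orderOf_eq_one])
    have hwM : w ∈ M := mem_centralizer_iff.2 fun x hx => by
      have h1 : w * x * w⁻¹ = x := by
        calc w * x * w⁻¹ = t⁻¹ * (g * t * g⁻¹ * x * (g * t * g⁻¹)⁻¹) * t := by rw [hw]; group
          _ = t⁻¹ * x⁻¹ * t := by rw [hinv g x hx]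
          _ = t * x⁻¹ * t⁻¹ := by rw [htt]
          _ = x := by rw [ht1 x⁻¹ (inv_mem hx), inv_inv]
      exact (mul_inv_eq_iff_eq_mul.1 h1).symm
    -- a square root of `w` in `⟨w⟩`
    obtain ⟨k, hk⟩ : Odd (orderOf w) := by
      obtain ⟨j, hj⟩ := IsPGroup.iff_orderOf.1 hMp ⟨w, hwM⟩
      rw [Subgroup.orderOf_mk] at hj
      rw [hj]; exact (hpf.out.odd_of_ne_two hp2).pow
    set s := w ^ (k + 1) with hs
    have hsq : s * s = w := by
      rw [hs, ← pow_add, show k + 1 + (k + 1) = 2 * k + 1 + 1 by ring, ← hk, pow_succ,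
        pow_orderOf_eq_one, one_mul]
    have hwinv : t * w * t⁻¹ = w⁻¹ := by
      have e : g * t * g⁻¹ * (g * t * g⁻¹) = 1 := by
        rw [show g * t * g⁻¹ * (g * t * g⁻¹) = g * (t * t) * g⁻¹ by group,
          show t * t = 1 from mul_eq_one_iff_eq_inv.2 htt.symm, mul_one, mul_inv_cancel]
      rw [hw, mul_inv_rev, inv_inv, inv_eq_of_mul_eq_one_right e, htt, ← mul_assoc,
        show t * t = 1 from mul_eq_one_iff_eq_inv.2 htt.symm, one_mul]
    have hst : t * s * t⁻¹ = s⁻¹ := by rw [hs, ← conj_pow, hwinv, inv_pow]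
    have hsg : s * g ∈ cent t := by
      refine mem_cent.2 ?_
      have e1 : g * t * g⁻¹ = t * (s * s) := by rw [hsq, hw, mul_inv_cancel_left]
      have e2 : t * s = s⁻¹ * t := mul_inv_eq_iff_eq_mul.1 hst
      calc s * g * t = s * (g * t * g⁻¹) * g := by group
        _ = s * (t * s) * s * g := by rw [e1]; group
        _ = t * (s * g) := by rw [e2]; group
    have := mul_mem (mem_sup_right (inv_mem (pow_mem hwM (k + 1))) : s⁻¹ ∈ cent t ⊔ M)
      (mem_sup_left hsg)
    simpa using this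
  right
  push Not at hcore
  have hrad : rad G ≠ ⊥ := fun e => by
    rw [e, mem_bot] at htr
    rw [htr, orderOf_one] at ht
    exact absurd ht (by norm_num)
  obtain ⟨r, hr, N, hNn, hN0, -, hNc, hNp, -, -⟩ := Solvable.exists_minimal_normal_pGroup hrad
  haveI := Fact.mk hr
  haveI := hNn
  have hrp : r ≠ p := fun e => hN0 (hcore N hNn (e ▸ hNp))
  have hfpf : ∀ n : G, IsElt p n → n ≠ 1 → ∀ x ∈ N, n * x * n⁻¹ = x → x = 1 := by
    intro n hn hn1 x hx hcomm
    have hxr := isElt_of_mem hNp hx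
    exact ItoSizes.eq_one_of_isElt (q := p) ((hfree n hn hn1 x).2
      (mem_cent.2 (mul_inv_eq_iff_eq_mul.1 hcomm).symm)) (hxr.not_dvd hr hpf.out hrp)
  obtain ⟨P⟩ : Nonempty (Sylow p G) := inferInstance
  have hpG : p ∣ Nat.card G := h.dvd_card_a hpa
  obtain ⟨y, hyP, hy1, hyle, -⟩ := exists_sylow_central P hpG
  obtain ⟨i0, hi0⟩ := isElt_of_mem P.2 hyP
  have hi0' : i0 ≠ 0 := by rintro rfl; exact hy1 (orderOf_eq_one_iff.1 (by simpa using hi0))
  set o := y ^ p ^ (i0 - 1) with ho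
  have hoo : orderOf o = p := by
    rw [ho, orderOf_pow_of_dvd (pow_ne_zero _ hpf.out.ne_zero) (hi0 ▸ pow_dvd_pow p (Nat.sub_le i0 1)),
      hi0, Nat.pow_div (Nat.sub_le i0 1) hpf.out.pos,
      Nat.sub_sub_self (Nat.one_le_iff_ne_zero.2 hi0'), pow_one]
  have hoP : o ∈ (P : Subgroup G) := pow_mem hyP _
  have ho1 : o ≠ 1 := fun e => by rw [e, orderOf_one] at hoo; exact hpf.out.ne_one hoo.symm
  have hoc : cent o = P := P.3 (hfree o (isElt_of_mem P.2 hoP) ho1 1).1
    (hyle.trans (ThreeSizes.cent_le_of_mem_zpowers (pow_mem (mem_zpowers y) _)))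
  -- a single subgroup of order `p`
  have huniq : ∀ j ∈ (P : Subgroup G), orderOf j = p → o ∈ zpowers j := by
    intro j hjP hjo
    by_contra hnot
    have hjoc : Commute o j := (mem_cent.1 (hoc.ge hjP) : Commute j o).symm
    letI : CommGroup N := { (inferInstance : Group N) with mul_comm := fun x y => hNc.is_comm.comm x y }
    let cj : G →* MulAut N := MulAut.conjNormal
    have key : ∀ x : N, x ^ p ∈ (⊥ : Subgroup N) :=
      Coprime.pow_mem_of_pair_aut (cj o) (cj j) (hjoc.map cj) hpf.out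
        (by rw [← map_pow, ← hoo, pow_orderOf_eq_one, map_one])
        (by rw [← map_pow, ← hjo, pow_orderOf_eq_one, map_one]) ⊥ ?_
    · obtain ⟨x, hxN, hx1⟩ := (bot_or_exists_ne_one N).resolve_left hN0
      have hxp : x ^ p = 1 := congrArg Subtype.val (mem_bot.1 (key ⟨x, hxN⟩))
      exact hx1 (ItoSizes.eq_one_of_isElt (q := p)
        (isElt_of_dvd_pow hpf.out (k := 1) (by rw [pow_one]; exact orderOf_dvd_of_pow_eq_one hxp))
        ((isElt_of_mem hNp hxN).not_dvd hr hpf.out hrp))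
    · intro k l hkl x hx
      rw [mem_bot]
      refine Subtype.ext (hfpf (o ^ k * j ^ l) (isElt_of_mem P.2 (mul_mem (pow_mem hoP k) (pow_mem hjP l)))
        ?_ x x.2 ?_)
      · intro e
        by_cases hk : p ∣ k
        · obtain ⟨q, rfl⟩ := hk
          rw [pow_mul, ← hoo, pow_orderOf_eq_one, one_pow, one_mul, ← orderOf_dvd_iff_pow_eq_one, hjo] at e
          exact hkl ⟨dvd_mul_right _ _, e⟩
        · refine hnot (Coprime.mem_of_pow_mem (n := k) ?_ (eq_inv_of_mul_eq_one_left e ▸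
            inv_mem (pow_mem (mem_zpowers j) l)))
          rw [hoo]; exact hpf.out.coprime_iff_not_dvd.2 hk
      · rw [← map_pow, ← map_pow, ← map_mul] at hx
        have h1 := congrArg Subtype.val hx
        rwa [MulAut.conjNormal_apply] at h1
  have hPcard : Nat.card (P : Subgroup G) = a := by
    rw [P.card_eq_multiplicity, ← sz_mul_card t, hta, hi,
      Nat.factorization_mul (pow_ne_zero _ hpf.out.ne_zero) Nat.card_pos.ne', Finsupp.add_apply,
      hpf.out.factorization_pow, Finsupp.single_eq_same, Nat.factorization_eq_zero_of_not_dvd hpH, add_zero]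
  have hcentP : ∀ u ∈ (P : Subgroup G), u ≠ 1 → cent u = (P : Subgroup G) := by
    intro u hu hu1
    obtain ⟨k, hk⟩ := isElt_of_mem P.2 hu
    have hk' : k ≠ 0 := by rintro rfl; exact hu1 (orderOf_eq_one_iff.1 (by simpa using hk))
    have hjo : orderOf (u ^ p ^ (k - 1)) = p := by
      rw [orderOf_pow_of_dvd (pow_ne_zero _ hpf.out.ne_zero) (hk ▸ pow_dvd_pow p (Nat.sub_le k 1)),
        hk, Nat.pow_div (Nat.sub_le k 1) hpf.out.pos, Nat.sub_sub_self (Nat.one_le_iff_ne_zero.2 hk'),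
        pow_one]
    have hmem : o ∈ zpowers u := (zpowers_le.2 (pow_mem (mem_zpowers u) _)) (huniq _ (pow_mem hu _) hjo)
    rw [← hoc]
    exact cent_eq_of_sz (ThreeSizes.cent_le_of_mem_zpowers hmem)
      ((hnb u (isElt_of_mem P.2 hu) hu1).trans (hnb o (isElt_of_mem P.2 hoP) ho1).symm)
  refine ⟨P, ht, fun x hx y hy => cent_commute_of_eq hcentP hx y hy, P.ne_bot_of_dvd_card hpG, ?_, ?_,
    hcentP, hT.solv⟩
  · obtain ⟨k, hk⟩ := IsPGroup.iff_card.1 P.2
    rw [hk]
    exact Nat.Coprime.pow_left _ ((hpf.out.coprime_iff_not_dvd).2 hpH)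
  · rw [hPcard, ← hta]; exact sz_mul_card t

end PGroupCase

/-! ### All these centralisers are abelian -/

theorem Sizes.free_case (h : Sizes G a b c) (hbc : ¬ b ∣ c) {t : G} (ht : orderOf t = 2)
    (hta : sz t = a) : Group.IsSolvable G ∨ ∃ A : Subgroup G, CC t A := by
  by_cases hP : ∃ (p : ℕ) (_ : p.Prime) (z : G), p ∣ a ∧ sz z = b ∧ IsElt p z ∧ IsPGroup p (cent z)
  · obtain ⟨p, hp, z, hpa, hz, hzp, hC⟩ := hP
    haveI := Fact.mk hp
    exact pCase h hbc ht hta hpa hz hzp hC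
  push Not at hP
  have hself : ∀ {p : ℕ}, p.Prime → p ∣ a → ∀ u : G, IsElt p u → u ≠ 1 →
      sz u = b ∧ ∀ x ∈ cent u, ∀ y ∈ cent u, Commute x y := by
    intro p hp hpa u hu hu1
    haveI := Fact.mk hp
    obtain ⟨P, hP'⟩ := (ThreeSizes.isPGroup_zpowers hu).exists_le_sylow
    obtain ⟨z, hzP, hz1, hzle, hzb⟩ := h.central_b hpa P
    have hcomm := (h.comm_or_pGroup hbc hp hzb (isElt_of_mem P.2 hzP)).resolve_left
      (hP p hp z hpa hzb (isElt_of_mem P.2 hzP))
    have huz : u ∈ cent z := hzle (hP' (mem_zpowers u))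
    have hle : cent z ≤ cent u := fun x hx => mem_cent.2 (hcomm x hx u huz).eq
    have heq := h.b_max hzb hu1 hle
    exact ⟨h.eq_b_of_dvd hu1 (hzb ▸ sz_dvd_of_le hle), heq ▸ hcomm⟩
  obtain ⟨p, hp, hpa⟩ := Nat.exists_prime_and_dvd (show a ≠ 1 by have := h.ha; omega)
  haveI := Fact.mk hp
  obtain ⟨P⟩ : Nonempty (Sylow p G) := inferInstance
  obtain ⟨z, hzP, hz1, hzle, hzb⟩ := h.central_b hpa P
  obtain ⟨-, hcomm⟩ := hself hp hpa z (isElt_of_mem P.2 hzP) hz1
  set A := cent z with hA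
  obtain ⟨d, hd⟩ := h.hac
  have hcentA : ∀ w ∈ A, w ≠ 1 → cent w = A := fun w hw hw1 =>
    h.b_max hzb hw1 fun x hx => mem_cent.2 (hcomm x hx w hw).eq
  have htfree : ∀ u : G, u ≠ 1 → sz u = b → (∀ x ∈ cent u, ∀ y ∈ cent u, Commute x y) → u ∉ cent t := by
    intro u hu1 hub hcu hut
    have hle : cent u ≤ cent t := fun x hx => mem_cent.2 (hcu x hx t (mem_cent_symm hut)).eq
    exact h.a_not_dvd_b (hta ▸ hub ▸ sz_dvd_of_le hle)
  have hrH : ∀ r : ℕ, r.Prime → r ∣ a → ¬ r ∣ Nat.card (cent t) := fun r hr hra hd => by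
    haveI := Fact.mk hr
    obtain ⟨⟨u, hu⟩, huo⟩ := exists_prime_orderOf_dvd_card' (G := cent t) r hd
    rw [Subgroup.orderOf_mk] at huo
    have hu1 : u ≠ 1 := fun e => by rw [e, orderOf_one] at huo; exact hr.ne_one huo.symm
    obtain ⟨hub, hcu⟩ := hself hr hra u ⟨1, by rw [huo, pow_one]⟩ hu1
    exact htfree u hu1 hub hcu hu
  have hprimes : ∀ r : ℕ, r.Prime → r ∣ Nat.card A → r ∣ a := by
    intro r hr hd
    by_contra hra
    haveI := Fact.mk hr
    obtain ⟨⟨u, hu⟩, huo⟩ := exists_prime_orderOf_dvd_card' (G := A) r hd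
    rw [Subgroup.orderOf_mk] at huo
    have hu1 : u ≠ 1 := fun e => by rw [e, orderOf_one] at huo; exact hr.ne_one huo.symm
    obtain ⟨g, hg⟩ := exists_conj_mem_of_index (H := cent t) hr
      (by rwa [show (cent t).index = a from hta]) ⟨1, by rw [huo, pow_one]⟩
    refine htfree (g * u * g⁻¹) (fun e => hu1 (conj_eq_one_iff.1 e)) ?_ ?_ hg
    · rw [ClassGraph.sz_conj]; show (cent u).index = b
      rw [hcentA u hu hu1]; exact hzb
    · rw [ThreeSizes.cent_conj, hcentA u hu hu1]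
      rintro _ ⟨x, hx, rfl⟩ _ ⟨y, hy, rfl⟩
      exact (hcomm x hx y hy).map _
  have hcopA : (Nat.card A).Coprime b := Nat.coprime_of_dvd fun r hr h1 h2 =>
    hr.ne_one (Nat.eq_one_of_dvd_coprimes h.cop (hprimes r hr h1) h2)
  have hcop : (Nat.card A).Coprime (Nat.card (cent t)) := Nat.coprime_of_dvd fun r hr h1 h2 =>
    hrH r hr (hprimes r hr h1) h2
  have e1 : b * Nat.card A = Nat.card G := hzb ▸ sz_mul_card z
  have e2 : a * Nat.card (cent t) = Nat.card G := hta ▸ sz_mul_card t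
  have hcard : Nat.card A = a := Nat.dvd_antisymm
    (hcop.dvd_of_dvd_mul_right (e2.trans e1.symm ▸ dvd_mul_left _ _))
    (h.cop.dvd_of_dvd_mul_left (e1.trans e2.symm ▸ dvd_mul_right _ _))
  refine Or.inr ⟨A, ht, hcomm, fun e => hz1 (mem_bot.1 (e ▸ self_mem z)), hcop, hcard ▸ e2, hcentA,
    (h.tri hd Nat.prime_two ⟨1, by rw [ht, pow_one]⟩ hta).solv⟩

end Cfsg.Agent.CentreFreeThree
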