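import Cfsg.Agent.Lib.CentreFreeThree.IsolationChar
import Cfsg.Agent.Lib.ZStar.Apply
import Cfsg.Agent.Lib.ZStar.Unique
import Cfsg.Agent.S0205

/-!
# An abelian CC-subgroup complementary to `C(t)`: `t` lies in the solvable radical (owner: helper33)
-/

set_option autoImplicit false
set_option linter.style.haveILetI false
set_option linter.unusedSectionVars false

open Subgroup

namespace Cfsg.Agent.CentreFreeThree

open Cfsg.Agent.ThreeSizes (mem_cent self_mem)

universe u

variable {G : Type u} [Group G] [Finite G] {t : G} {A : Subgroup G}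

local notation "cent" x:max => Subgroup.centralizer ({x} : Set _)

theorem mem_rad_of_isolated (ht : orderOf t = 2) (hiso : Cfsg.IsIsolated t) : t ∈ rad G := by
  have hz := ZStar.zStar_pElement ZStar.uniqueInvolution ⟨1, by rw [ht, pow_one]⟩ hiso
  set O := Cfsg.pPrimeCore 2 G with hO
  haveI : O.Normal := Cores.pPrimeCore_normal 2 G
  haveI : Group.IsSolvable O := S0205.result
    (Nat.coprime_two_right.1 (Cores.coprime_card_pPrimeCore 2))
  haveI : Group.IsSolvable (zpowers t) :=
    Group.isSolvable_of_comm fun a b => IsMulCommutative.is_comm.comm a b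
  refine le_rad (N := normalClosure ({t} : Set G)) normalClosure_normal ?_
    (subset_normalClosure (Set.mem_singleton t))
  haveI := Solvable.isSolvable_sup (zpowers t) O
  refine Solvable.isSolvable_of_le (K := zpowers t ⊔ O) ((closure_le _).2 fun x hx => ?_)
  obtain ⟨w, h1, h2⟩ := Group.mem_conjugatesOfSet_iff.1 hx
  rw [Set.mem_singleton_iff] at h1
  rw [h1] at h2
  obtain ⟨g, rfl⟩ := isConj_iff.1 h2
  have := mul_mem (mem_sup_right (S := zpowers t) (hz g)) (mem_sup_left (T := O) (mem_zpowers t))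
  rwa [inv_mul_cancel_right] at this

theorem CC.exists_normal (h : CC t A) (hiso : ¬ Cfsg.IsIsolated t) :
    ∃ M : Subgroup G, M.Normal ∧ M ≠ ⊤ ∧ t ∈ M := by
  classical
  haveI := Fintype.ofFinite G
  obtain ⟨n, ρ, hρ, hne, hχt, hcop, hsum⟩ := h.exists_character hiso
  haveI := hρ
  have hd : Module.finrank ℂ (Fin n → ℂ) = n := Module.finrank_fin_fun ℂ
  have hnorm : ‖ρ.character t‖ = (Module.finrank ℂ (Fin n → ℂ) : ℝ) :=
    (CharApp.zero_or_norm_eq_of_coprime ρ t (by rw [hd, h.index_cent]; exact hcop)).resolve_left hχt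
  obtain ⟨ω, hω⟩ := (Char.norm_character_eq_iff ρ t).1 hnorm
  have hω1 : ω = 1 := by
    rw [finsum_eq_sum_of_fintype] at hsum
    have h1 : ∑ x : cent t, ρ.character x = ω * ∑ x : cent t, ρ.character x := by
      conv_lhs => rw [← Equiv.sum_comp (Equiv.mulLeft (⟨t, self_mem t⟩ : cent t))]
      rw [Finset.mul_sum]
      refine Finset.sum_congr rfl fun x _ => ?_
      show LinearMap.trace ℂ _ (ρ (t * x)) = ω * LinearMap.trace ℂ _ (ρ x)
      rw [map_mul, hω, ← Module.End.one_eq_id, smul_mul_assoc, one_mul, map_smul, smul_eq_mul]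
    exact ((mul_eq_right₀ hsum).1 h1.symm)
  refine ⟨(MonoidHom.toHomUnits ρ).ker, inferInstance, fun e => hne ?_, ?_⟩
  swap
  · refine MonoidHom.mem_ker.2 (Units.ext ?_)
    show ρ t = 1
    rw [hω, hω1, one_smul]; rfl
  have hone : ∀ g : G, ρ g = 1 := fun g => congrArg Units.val (MonoidHom.mem_ker.1 (e.ge (mem_top g)))
  have hχ : ∀ g : G, ρ.character g = (n : ℂ) := fun g => by
    show LinearMap.trace ℂ _ (ρ g) = _
    rw [hone g, LinearMap.trace_one, hd]
  have h1 := Char.classInner_irr_self (χ := ρ.character) ⟨n, ρ, hρ, rfl⟩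
  have h2 : (n : ℂ) * n = 1 := by
    rw [Cfsg.classInner, Finset.sum_congr rfl fun g _ => by rw [hχ g, map_natCast], Finset.sum_const,
      Finset.card_univ, nsmul_eq_mul, ← Nat.card_eq_fintype_card, ← mul_assoc,
      inv_mul_cancel₀ (Nat.cast_ne_zero.2 Nat.card_pos.ne'), one_mul] at h1
    exact h1
  have h3 : n = 1 := Nat.eq_one_of_mul_eq_one_right (by exact_mod_cast h2 : n * n = 1)
  funext g
  rw [hχ g, h3, Nat.cast_one]; rfl

theorem card_subgroupOf_eq (H M : Subgroup G) : Nat.card (H.subgroupOf M) = Nat.card ↥(H ⊓ M) := by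
  rw [← inf_subgroupOf_right, Nat.card_congr (subgroupOfEquivOfLe inf_le_right).toEquiv]

theorem CC.subgroupOf (h : CC t A) {M : Subgroup G} [M.Normal] (htM : t ∈ M) (hA : A ⊓ M ≠ ⊥) :
    CC (⟨t, htM⟩ : M) (A.subgroupOf M) := by
  have hcH : (Subgroup.centralizer ({(⟨t, htM⟩ : M)} : Set M)) = (cent t).subgroupOf M := cent_subtype _
  refine ⟨by rw [Subgroup.orderOf_mk, h.inv], fun x hx y hy => Subtype.ext (h.comm _ hx _ hy).eq,
    fun e => hA ?_, ?_, ?_, fun z hz hz1 => ?_, ?_⟩
  · rw [eq_bot_iff]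
    intro x hx
    have h1 : (⟨x, hx.2⟩ : M) ∈ A.subgroupOf M := hx.1
    rw [e, mem_bot] at h1
    exact congrArg Subtype.val h1
  · rw [hcH, card_subgroupOf_eq, card_subgroupOf_eq]
    exact Nat.Coprime.coprime_dvd_left (card_dvd_of_le inf_le_left)
      (Nat.Coprime.coprime_dvd_right (card_dvd_of_le inf_le_left) h.cop)
  · rw [hcH]
    set A' := A.subgroupOf M
    set H' := (cent t).subgroupOf M
    have hA' : Nat.card A' ∣ Nat.card A := card_subgroupOf_eq A M ▸ card_dvd_of_le inf_le_left
    have hH' : Nat.card H' ∣ Nat.card (cent t) := card_subgroupOf_eq (cent t) M ▸ card_dvd_of_le inf_le_left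
    have hiA : A'.index ∣ Nat.card (cent t) :=
      h.index_A ▸ ClassIndex.relIndex_dvd_index_of_normal_right A M
    have hiH : H'.index ∣ Nat.card A := by
      rw [← h.index_cent]; exact ClassIndex.relIndex_dvd_index_of_normal_right (cent t) M
    have e1 := A'.card_mul_index
    have e2 := H'.card_mul_index
    have h1 : Nat.card H' ∣ A'.index :=
      Nat.Coprime.dvd_of_dvd_mul_left (Nat.Coprime.coprime_dvd_left hH'
        (Nat.Coprime.coprime_dvd_right hA' h.cop.symm)) (e1.symm ▸ e2 ▸ dvd_mul_right _ _)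
    have h2 : A'.index ∣ Nat.card H' :=
      Nat.Coprime.dvd_of_dvd_mul_right (Nat.Coprime.coprime_dvd_left hiA
        (Nat.Coprime.coprime_dvd_right hiH h.cop.symm)) (e2.symm ▸ e1 ▸ dvd_mul_left _ _)
    rw [Nat.dvd_antisymm h1 h2]; exact e1
  · rw [cent_subtype, h.centA (z : G) hz fun e => hz1 (Subtype.ext e)]
  · haveI := h.solv
    rw [hcH]
    exact Solvable.isSolvable_subgroupOf M

theorem CC.mem_rad_aux : ∀ (N : ℕ) (G : Type u) [Group G] [Finite G] (t : G) (A : Subgroup G),
    Nat.card G = N → CC t A → t ∈ rad G := by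
  intro N
  induction N using Nat.strong_induction_on with
  | _ N ih =>
    intro G _ _ t A hN h
    by_cases hiso : Cfsg.IsIsolated t
    · exact mem_rad_of_isolated h.inv hiso
    obtain ⟨M, hMn, hMtop, htM⟩ := h.exists_normal hiso
    haveI := hMn
    by_cases hA : A ⊓ M = ⊥
    · have hle : M ≤ Subgroup.centralizer ({t} : Set G) := by
        have hc : Nat.card M ∣ Nat.card (Subgroup.centralizer ({t} : Set G)) := by
          have h1 : A.relIndex M = Nat.card M := by
            rw [← inf_relIndex_right, hA, relIndex_bot_left]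
          exact h1 ▸ h.index_A ▸ ClassIndex.relIndex_dvd_index_of_normal_right A M
        refine relIndex_eq_one.1 (Nat.eq_one_of_dvd_coprimes
          ((Nat.Coprime.coprime_dvd_right hc h.cop)) ?_ (relIndex_dvd_card _ M))
        exact h.index_cent ▸ ClassIndex.relIndex_dvd_index_of_normal_right _ M
      haveI := h.solv
      exact le_rad hMn (Solvable.isSolvable_of_le hle) htM
    · have h1 := ih (Nat.card M) (hN ▸ Solvable.card_lt_of_ne_top hMtop) M ⟨t, htM⟩ _ rfl (h.subgroupOf htM hA)
      exact rad_map_le M ⟨_, h1, rfl⟩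

/-- The involution lies in the solvable radical. -/
theorem CC.mem_rad (h : CC t A) : t ∈ rad G := CC.mem_rad_aux _ G t A rfl h

end Cfsg.Agent.CentreFreeThree
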