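import Cfsg.Agent.Lib.CentreFreeThree.Free
import Cfsg.Agent.Lib.Char.Perm
import Cfsg.Agent.Lib.Char.Linear
import Cfsg.Agent.Lib.Char.Eigen
import Cfsg.Agent.Lib.CharApp.Burnside

/-!
# An abelian CC-subgroup complementary to `C(t)`: a character (owner: helper33)

If some other conjugate of `t` commutes with `t`, some non-principal constituent `χ` of the permutation
character on `G/C(t)` does not vanish at `t`; its degree is prime to `|A|`.
-/

set_option autoImplicit false
set_option linter.style.haveILetI false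
set_option linter.unusedSectionVars false

open Subgroup
open scoped ComplexConjugate

namespace Cfsg.Agent.CentreFreeThree

open Cfsg (IrrCharacter IsIrrCharacter IsCharacter IsClassFunction classInner indFun extendByZero)
open Cfsg.Agent.ThreeSizes (mem_cent self_mem)

universe u

variable {G : Type u} [Group G] [Finite G] {t : G} {A : Subgroup G}

local notation "cent" x:max => Subgroup.centralizer ({x} : Set _)

theorem CC.mem_normalizer (h : CC t A) {z x : G} (hz : z ∈ A) (hz1 : z ≠ 1) (hx : x⁻¹ * z * x ∈ A) :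
    x ∈ normalizer (A : Set G) := by
  have h1 : x⁻¹ * z * x ≠ 1 := fun e => hz1 (conj_eq_one_iff.1 (show x⁻¹ * z * x⁻¹⁻¹ = 1 by rwa [inv_inv]))
  have h2 : A.map (MulAut.conj x⁻¹).toMonoidHom = A := by
    conv_lhs => rw [← h.centA z hz hz1, ← ThreeSizes.cent_conj, inv_inv]
    exact h.centA _ hx h1
  have h3 : x⁻¹ ∈ normalizer (A : Set G) := PLocal.mem_normalizer_iff_map_eq.2 h2
  simpa using inv_mem h3

theorem CC.regular (h : CC t A) {z x : G} (hz : z ∈ A) (hz1 : z ≠ 1) : x⁻¹ * z * x ∉ cent t := by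
  intro hx
  refine hz1 (orderOf_eq_one_iff.1 (Nat.eq_one_of_dvd_coprimes h.cop (orderOf_dvd_natCard _ hz) ?_))
  have h1 : orderOf (x⁻¹ * z * x) = orderOf z := by
    rw [show x⁻¹ * z * x = MulAut.conj x⁻¹ z by simp, MulEquiv.orderOf_eq]
  exact h1 ▸ orderOf_dvd_natCard _ hx

theorem CC.index_cent (h : CC t A) : (cent t).index = Nat.card A :=
  Nat.eq_of_mul_eq_mul_right Nat.card_pos ((cent t).index_mul_card.trans h.prod.symm)

theorem CC.index_A (h : CC t A) : A.index = Nat.card (cent t) :=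
  Nat.eq_of_mul_eq_mul_left Nat.card_pos (A.card_mul_index.trans h.prod.symm)

theorem exists_hom_irr {A : Type u} [Group A] [Finite A] (hA : ∀ a b : A, a * b = b * a)
    (l : IrrCharacter A) : ∃ f : A →* ℂ, ⇑f = (l : A → ℂ) :=
  Char.exists_hom_of_degree_one (Char.IsIrrCharacter.isCharacter l.2) (Char.apply_one_eq_one_of_comm hA l)

/-- The character. -/
theorem CC.exists_character (h : CC t A) (hiso : ¬ Cfsg.IsIsolated t) :
    ∃ (n : ℕ) (ρ : Representation ℂ G (Fin n → ℂ)), ρ.IsIrreducible ∧ ρ.character ≠ 1 ∧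
      ρ.character t ≠ 0 ∧ n.Coprime (Nat.card A) ∧
      ∑ᶠ x : cent t, ρ.character x ≠ 0 := by
  classical
  haveI := Fintype.ofFinite G
  haveI := Fintype.ofFinite (IrrCharacter G)
  haveI := Fintype.ofFinite (IrrCharacter A)
  set H := cent t with hH
  have hAcomm : ∀ a b : A, a * b = b * a := fun a b => Subtype.ext (h.comm a a.2 b b.2).eq
  set π : G → ℂ := indFun H (1 : H → ℂ) with hπdef
  have hπ : IsCharacter G π := Char.IsCharacter.indFun H Char.isCharacter_one
  obtain ⟨m, hm, hmi⟩ := Char.IsCharacter.decompose hπ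
  let one : IrrCharacter G := ⟨1, Char.isIrrCharacter_one⟩
  let oneA : IrrCharacter A := ⟨1, Char.isIrrCharacter_one⟩
  have hm1 : m one = 1 := by
    have h1 := hmi one
    rw [hπdef, Char.frobenius_reciprocity H _ (Char.IsIrrCharacter.isClassFunction one.2)] at h1
    have h2 : classInner (1 : H → ℂ) (fun x : H => (one : G → ℂ) x) = 1 :=
      Char.classInner_irr_self Char.isIrrCharacter_one
    rw [h2] at h1
    exact_mod_cast h1.symm
  -- a non-principal constituent not vanishing at `t`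
  obtain ⟨χ, hχm, hχ1, hχt⟩ : ∃ χ : IrrCharacter G, m χ ≠ 0 ∧ χ ≠ one ∧ (χ : G → ℂ) t ≠ 0 := by
    by_contra! hno
    have h1 : π t = 1 := by
      have h2 := congrFun hm t
      rw [Finset.sum_apply, Finset.sum_eq_single one] at h2
      · rw [h2, Pi.smul_apply, hm1, Nat.cast_one, one_smul]; rfl
      · intro φ _ hφ
        rw [Pi.smul_apply, smul_eq_mul]
        by_cases hφm : m φ = 0
        · rw [hφm, Nat.cast_zero, zero_mul]
        · rw [hno φ hφm hφ, mul_zero]
      · exact fun hn => absurd (Finset.mem_univ _) hn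
    rw [hπdef, Char.indFun_one_eq_fixedPoints, Nat.cast_eq_one] at h1
    simp only [Cfsg.IsIsolated] at hiso
    push Not at hiso
    obtain ⟨g, hg, hgne⟩ := hiso
    have hfix : ∀ x : G, x⁻¹ * t * x ∈ H → t • (x : G ⧸ H) = (x : G ⧸ H) := fun x hx => by
      rw [MulAction.Quotient.smul_coe, eq_comm, QuotientGroup.eq, smul_eq_mul, ← mul_assoc]
      exact hx
    have hg' : g⁻¹ * t * g ∈ H := by
      refine mem_cent.2 ?_
      calc g⁻¹ * t * g * t = g⁻¹ * (t * (g * t * g⁻¹)) * g := by group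
        _ = g⁻¹ * (g * t * g⁻¹ * t) * g := by rw [hg.eq]
        _ = t * (g⁻¹ * t * g) := by group
    haveI : Subsingleton (MulAction.fixedBy (G ⧸ H) t) :=
      (Nat.card_eq_one_iff_unique.1 h1).1
    have h2 := congrArg Subtype.val (Subsingleton.elim
      (⟨((1 : G) : G ⧸ H), hfix 1 (by simpa using self_mem t)⟩ : MulAction.fixedBy (G ⧸ H) t)
      ⟨(g : G ⧸ H), hfix g hg'⟩)
    rw [QuotientGroup.eq, inv_one, one_mul] at h2
    exact hgne (mul_inv_eq_iff_eq_mul.2 (mem_cent.1 h2))
  -- multiplicities of linear characters of `A`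
  have hnat : ∀ (φ : IrrCharacter G) (l : IrrCharacter A), ∃ k : ℕ,
      classInner (fun z : A => (φ : G → ℂ) z) (l : A → ℂ) = k := fun φ l =>
    Char.IsCharacter.classInner_nat (Char.IsCharacter.restrict (Char.IsIrrCharacter.isCharacter φ.2) A)
      (Char.IsIrrCharacter.isCharacter l.2)
  choose k hk using hnat
  have hreg : ∀ z : A, π z = if z = 1 then (Nat.card A : ℂ) else 0 := by
    intro z
    split_ifs with hz
    · subst hz
      rw [hπdef, OneMemClass.coe_one, Char.indFun_one_apply, Pi.one_apply, mul_one, h.index_cent]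
    · have h0 : ∀ x : G, extendByZero H (1 : H → ℂ) (x⁻¹ * (z : G) * x) = 0 := fun x =>
        Char.extendByZero_not_mem H _ (h.regular z.2 fun e => hz (Subtype.ext e))
      simp [hπdef, indFun, h0]
  have hsum : ∀ l : IrrCharacter A, ∑ φ : IrrCharacter G, m φ * k φ l = 1 := by
    intro l
    have h1 : classInner (fun z : A => π z) (l : A → ℂ) = 1 := by
      rw [classInner, Finset.sum_eq_single (1 : A) (fun z _ hz => by rw [hreg, if_neg hz, zero_mul])
        (fun hn => absurd (Finset.mem_univ _) hn), hreg, if_pos rfl, Char.apply_one_eq_one_of_comm hAcomm l,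
        map_one, mul_one, inv_mul_cancel₀ (Nat.cast_ne_zero.2 Nat.card_pos.ne')]
    have h2 : (fun z : A => π z) = ∑ φ : IrrCharacter G, (m φ : ℂ) • fun z : A => (φ : G → ℂ) z := by
      funext z
      have := congrFun hm (z : G)
      simp only [Finset.sum_apply, Pi.smul_apply] at this ⊢
      exact this
    rw [h2, Char.classInner_sum_left] at h1
    simp only [Char.classInner_smul_left, hk] at h1
    exact_mod_cast h1
  have huniq : ∀ (l : IrrCharacter A) (φ ψ : IrrCharacter G), m φ ≠ 0 → k φ l ≠ 0 → m ψ ≠ 0 → φ ≠ ψ →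
      k ψ l = 0 := by
    intro l φ ψ hφ hkφ hψ hne
    have h1 := Finset.sum_le_sum_of_subset (f := fun χ => m χ * k χ l)
      (Finset.subset_univ ({φ, ψ} : Finset (IrrCharacter G)))
    rw [Finset.sum_pair hne, hsum l] at h1
    by_contra hkψ
    have h2 := Nat.mul_pos (Nat.pos_of_ne_zero hφ) (Nat.pos_of_ne_zero hkφ)
    have h3 := Nat.mul_pos (Nat.pos_of_ne_zero hψ) (Nat.pos_of_ne_zero hkψ)
    omega
  have hk01 : ∀ (φ : IrrCharacter G) (l : IrrCharacter A), m φ ≠ 0 → k φ l ≤ 1 := by
    intro φ l hφ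
    have h1 := Finset.single_le_sum (f := fun χ => m χ * k χ l) (fun χ _ => Nat.zero_le _) (Finset.mem_univ φ)
    simp only [hsum l] at h1
    exact le_trans (Nat.le_mul_of_pos_left _ (Nat.pos_of_ne_zero hφ)) h1
  have hk1 : k one oneA = 1 := by
    have h1 := hk one oneA
    have h2 : classInner (fun z : A => (one : G → ℂ) z) (oneA : A → ℂ) = 1 :=
      Char.classInner_irr_self Char.isIrrCharacter_one
    rw [h2] at h1
    exact_mod_cast h1.symm
  have hχone : k χ oneA = 0 :=
    huniq oneA one χ (by rw [hm1]; exact one_ne_zero) (by rw [hk1]; exact one_ne_zero) hχm (Ne.symm hχ1)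
  have hχdeg : (χ : G → ℂ) 1 = ∑ l : IrrCharacter A, (k χ l : ℂ) := by
    have h1 := congrFun (Char.classFunction_eq_sum (f := fun z : A => (χ : G → ℂ) z)
      (Char.IsCharacter.isClassFunction
        (Char.IsCharacter.restrict (Char.IsIrrCharacter.isCharacter χ.2) A))) 1
    simp only [Finset.sum_apply, Pi.smul_apply, smul_eq_mul, hk] at h1
    rw [OneMemClass.coe_one] at h1
    rw [h1]
    exact Finset.sum_congr rfl fun l _ => by rw [Char.apply_one_eq_one_of_comm hAcomm l, mul_one]
  obtain ⟨n, ρ, hρ, hρχ⟩ := χ.2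
  haveI := hρ
  have hn : (χ : G → ℂ) 1 = n := by rw [← hρχ, Representation.char_one, Module.finrank_fin_fun]
  refine ⟨n, ρ, hρ, fun e => hχ1 (Subtype.ext (hρχ.symm.trans e)), by rwa [hρχ], ?_, ?_⟩
  swap
  · have h1 := hmi χ
    rw [hπdef, Char.frobenius_reciprocity H _ (Char.IsIrrCharacter.isClassFunction χ.2), classInner] at h1
    rw [finsum_eq_sum_of_fintype]
    intro h0
    apply hχm
    have h2 : ∑ x : H, (1 : H → ℂ) x * conj ((χ : G → ℂ) x) = 0 := by
      simp only [Pi.one_apply, one_mul, ← map_sum]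
      rw [← hρχ, h0, map_zero]
    rw [h2, mul_zero] at h1
    exact_mod_cast h1.symm
  -- the degree
  by_cases hall : ∀ l : IrrCharacter A, l ≠ oneA → k χ l ≠ 0
  · have hcardI : Fintype.card (IrrCharacter A) = Nat.card A := by
      rw [← Nat.card_eq_fintype_card, Char.card_irr_eq_card_conjClasses, Char.card_conjClasses_of_comm hAcomm]
    have h1 : (n : ℂ) = ((Nat.card A - 1 : ℕ) : ℂ) := by
      rw [← hn, hχdeg, ← Nat.cast_sum, ← Finset.add_sum_erase _ _ (Finset.mem_univ oneA), hχone, zero_add,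
        Finset.sum_congr rfl (g := fun _ => 1) fun l hl =>
          le_antisymm (hk01 χ l hχm) (Nat.pos_of_ne_zero (hall l (Finset.mem_erase.1 hl).1)),
        Finset.sum_const, Finset.card_erase_of_mem (Finset.mem_univ _), Finset.card_univ, hcardI,
        smul_eq_mul, mul_one]
    rw [Nat.cast_inj.1 h1]
    exact (Nat.coprime_self_sub_left Nat.card_pos).2 (Nat.coprime_one_left _)
  push Not at hall
  obtain ⟨mu, hmu1, hmuχ⟩ := hall
  obtain ⟨lam, hlamχ⟩ : ∃ lam, k χ lam ≠ 0 := by
    by_contra! h0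
    refine Char.IsIrrCharacter.apply_one_ne_zero χ.2 ?_
    rw [hχdeg]; simp [h0]
  obtain ⟨ψ, hψm, hψmu⟩ : ∃ ψ, m ψ ≠ 0 ∧ k ψ mu ≠ 0 := by
    by_contra! h0
    have h1 := hsum mu
    rw [Finset.sum_eq_zero fun φ _ => by
      by_cases e : m φ = 0
      · rw [e, zero_mul]
      · rw [h0 φ e, mul_zero]] at h1
    exact zero_ne_one h1
  have hψχ : ψ ≠ χ := fun e => hψmu (e ▸ hmuχ)
  have hlam1 : lam ≠ oneA := fun e => hlamχ (e ▸ hχone)
  have hψlam : k ψ lam = 0 := huniq lam χ ψ hχm hlamχ hψm (Ne.symm hψχ)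
  -- the normalizer acts on the linear characters
  set N := normalizer (A : Set G) with hN
  let e : N → A ≃* A := fun x => normalizerMonoidHom A x⁻¹
  have he : ∀ (x : N) (z : A), ((e x z : A) : G) = (x : G)⁻¹ * z * x := fun x z => by
    show (x⁻¹ : N) * (z : G) * ((x⁻¹ : N) : G)⁻¹ = _
    simp
  let act : N → IrrCharacter A → IrrCharacter A := fun x l =>
    ⟨fun z => (l : A → ℂ) (e x z), Char.IsIrrCharacter.comp_equiv l.2 (e x)⟩
  have hactk : ∀ (φ : IrrCharacter G) (x : N) (l : IrrCharacter A), k φ (act x l) = k φ l := by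
    intro φ x l
    have h1 : (fun z : A => (φ : G → ℂ) (z : G)) = fun z : A => (φ : G → ℂ) ((e x z : A) : G) := by
      funext z
      rw [he]
      conv_rhs => rw [show (x : G)⁻¹ * z * x = (x : G)⁻¹ * z * (x : G)⁻¹⁻¹ by rw [inv_inv],
        Char.IsIrrCharacter.isClassFunction φ.2 (z : G) (x : G)⁻¹]
    have h2 := hk φ (act x l)
    rw [h1] at h2
    have h3 : classInner (fun z : A => (φ : G → ℂ) ((e x z : A) : G)) (fun z : A => (l : A → ℂ) (e x z)) =
        k φ l := (Char.classInner_comp_equiv (e x) (fun z : A => (φ : G → ℂ) z) (l : A → ℂ)).trans (hk φ l)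
    exact_mod_cast h2.symm.trans h3
  have hfree : ∀ (l : IrrCharacter A), l ≠ oneA → ∀ x y : N, act x l = act y l →
      (y : G)⁻¹ * (x : G) ∈ A := by
    intro l hl x y hxy
    by_contra hnA
    obtain ⟨f, hf⟩ := exists_hom_irr hAcomm l
    apply hl
    refine Subtype.ext ?_
    show (l : A → ℂ) = 1
    set w := (y : G)⁻¹ * (x : G) with hw
    have hwN : w ∈ N := mul_mem (inv_mem y.2) x.2
    let g : A → A := fun z =>
      ⟨(z : G)⁻¹ * (w * z * w⁻¹), mul_mem (inv_mem z.2) ((mem_normalizer_iff.1 hwN z).1 z.2)⟩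
    have hg : Function.Injective g := by
      intro z z' hzz
      have h1 : (z : G)⁻¹ * (w * z * w⁻¹) = (z' : G)⁻¹ * (w * z' * w⁻¹) := congrArg Subtype.val hzz
      by_contra hne
      refine hnA ?_
      rw [← h.centA ((z' : G) * (z : G)⁻¹) (mul_mem z'.2 (inv_mem z.2))
        (fun e0 => hne (Subtype.ext (mul_inv_eq_one.1 e0).symm))]
      refine mem_cent.2 ?_
      have h2 : (z' : G) * (z : G)⁻¹ * (w * z * w⁻¹) = w * z' * w⁻¹ := by
        rw [mul_assoc, h1, mul_inv_cancel_left]
      calc w * ((z' : G) * (z : G)⁻¹) = (w * z' * w⁻¹) * (w * z * w⁻¹)⁻¹ * w := by group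
        _ = _ := by rw [← h2, mul_inv_cancel_right]
    funext z'
    obtain ⟨z, rfl⟩ := Finite.surjective_of_injective hg z'
    have hwz : w * (z : G) * w⁻¹ ∈ A := (mem_normalizer_iff.1 hwN z).1 z.2
    have hxz : (x : G) * z * (x : G)⁻¹ ∈ A := (mem_normalizer_iff.1 x.2 z).1 z.2
    have h2 := congrFun (congrArg Subtype.val hxy) ⟨(x : G) * z * (x : G)⁻¹, hxz⟩
    change (l : A → ℂ) (e x _) = (l : A → ℂ) (e y _) at h2
    have e1 : e x ⟨(x : G) * z * (x : G)⁻¹, hxz⟩ = z := Subtype.ext (by rw [he]; group)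
    have e2 : e y ⟨(x : G) * z * (x : G)⁻¹, hxz⟩ = ⟨w * z * w⁻¹, hwz⟩ :=
      Subtype.ext (by rw [he]; simp only [hw]; group)
    rw [e1, e2, ← hf] at h2
    show (l : A → ℂ) (g z) = 1
    rw [← hf, show g z = z⁻¹ * ⟨w * z * w⁻¹, hwz⟩ from Subtype.ext (by simp [g]), map_mul, ← h2, ← map_mul,
      inv_mul_cancel, map_one]
  have hsame : ∀ (l : IrrCharacter A) (x y : N), (y : G)⁻¹ * (x : G) ∈ A → act x l = act y l := by
    intro l x y hxy
    refine Subtype.ext (funext fun z => ?_)
    show (l : A → ℂ) (e x z) = (l : A → ℂ) (e y z)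
    refine congrArg (l : A → ℂ) (Subtype.ext ?_)
    rw [he, he]
    have hyz : (y : G)⁻¹ * z * y ∈ A := by
      have := (e y z).2
      rwa [he] at this
    have hc := (h.comm _ hxy _ hyz).eq
    calc (x : G)⁻¹ * z * x = ((y : G)⁻¹ * x)⁻¹ * ((y : G)⁻¹ * z * y * ((y : G)⁻¹ * x)) := by group
      _ = ((y : G)⁻¹ * x)⁻¹ * ((y : G)⁻¹ * x * ((y : G)⁻¹ * z * y)) := by rw [hc]
      _ = (y : G)⁻¹ * z * y := by group
  haveI := Fintype.ofFinite N
  let cnt : IrrCharacter A → IrrCharacter A → ℕ := fun l0 l =>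
    (Finset.univ.filter fun x : N => act x l0 = l).card
  have hcnt : ∀ (l0 : IrrCharacter A), l0 ≠ oneA → ∀ x0 : N, cnt l0 (act x0 l0) = Nat.card A := by
    intro l0 hl0 x0
    rw [Nat.card_eq_fintype_card, ← Finset.card_univ]
    refine (Finset.card_bij (fun (z : A) _ => (⟨(x0 : G) * z, mul_mem x0.2 (le_normalizer z.2)⟩ : N))
      ?_ ?_ ?_).symm
    · exact fun z _ => Finset.mem_filter.2 ⟨Finset.mem_univ _, hsame l0 _ x0 (by simp)⟩
    · exact fun z _ z' _ hzz => Subtype.ext (mul_left_cancel (congrArg Subtype.val hzz :))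
    · intro x hx
      exact ⟨⟨(x0 : G)⁻¹ * x, hfree l0 hl0 x x0 (Finset.mem_filter.1 hx).2⟩, Finset.mem_univ _,
        Subtype.ext (mul_inv_cancel_left _ _)⟩
  have hcnt0 : ∀ (l0 l : IrrCharacter A), (∀ x : N, act x l0 ≠ l) → cnt l0 l = 0 := fun l0 l hne =>
    Finset.card_eq_zero.2 (Finset.filter_eq_empty_iff.2 fun x _ => hne x)
  set f : G → ℂ := indFun A ((lam : A → ℂ) - (mu : A → ℂ)) with hfdef
  have hfA : ∀ z : A, f z = (Nat.card A : ℂ)⁻¹ *
      ∑ x : N, ((act x lam : A → ℂ) z - (act x mu : A → ℂ) z) := by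
    intro z
    rcases eq_or_ne z 1 with rfl | hz
    · rw [hfdef, OneMemClass.coe_one, Char.indFun_one_apply, Pi.sub_apply,
        Char.apply_one_eq_one_of_comm hAcomm lam, Char.apply_one_eq_one_of_comm hAcomm mu, sub_self, mul_zero,
        Finset.sum_eq_zero fun x _ => by
          rw [Char.apply_one_eq_one_of_comm hAcomm, Char.apply_one_eq_one_of_comm hAcomm, sub_self],
        mul_zero]
    rw [hfdef]
    unfold Cfsg.indFun
    congr 1
    rw [← Finset.sum_filter_add_sum_filter_not Finset.univ (· ∈ N),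
      Finset.sum_eq_zero (s := Finset.univ.filter fun x => ¬ x ∈ N) fun x hx => by
        rw [Char.extendByZero_not_mem]
        exact fun hmem => (Finset.mem_filter.1 hx).2
          (h.mem_normalizer z.2 (fun e0 => hz (Subtype.ext e0)) hmem), add_zero,
      Finset.sum_subtype (p := (· ∈ N)) _ (fun x => by simp)
        (fun x : G => extendByZero A ((lam : A → ℂ) - (mu : A → ℂ)) (x⁻¹ * z * x))]
    refine Finset.sum_congr rfl fun x _ => ?_
    rw [← he, Char.extendByZero_coe]
    rfl
  have hfinner : ∀ l : IrrCharacter A, classInner (fun z : A => f z) (l : A → ℂ) =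
      (Nat.card A : ℂ)⁻¹ * ((cnt lam l : ℂ) - (cnt mu l : ℂ)) := by
    intro l
    have h1 : (fun z : A => f z) = (Nat.card A : ℂ)⁻¹ •
        ∑ x : N, ((act x lam : A → ℂ) - (act x mu : A → ℂ)) := by
      funext z
      rw [hfA, Pi.smul_apply, Finset.sum_apply, smul_eq_mul]
      rfl
    rw [h1, Char.classInner_smul_left, Char.classInner_sum_left]
    congr 1
    rw [Finset.sum_congr rfl fun x _ => by
      rw [Char.classInner_sub_left, Char.classInner_irr (act x lam).2 l.2,
        Char.classInner_irr (act x mu).2 l.2], Finset.sum_sub_distrib]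
    simp only [← Subtype.ext_iff]
    rw [Finset.sum_boole, Finset.sum_boole]
  have ha0 : (Nat.card A : ℂ) ≠ 0 := Nat.cast_ne_zero.2 Nat.card_pos.ne'
  have hid : ∀ l : IrrCharacter A, act 1 l = l := fun l => by
    refine Subtype.ext (funext fun z => congrArg (l : A → ℂ) (Subtype.ext ?_))
    rw [he]; simp
  have hlm : ∀ x : N, act x lam ≠ mu := fun x e0 => hlamχ (by rw [← hactk χ x lam, e0, hmuχ])
  have hml : ∀ x : N, act x mu ≠ lam := fun x e0 => hlamχ (by rw [← e0, hactk, hmuχ])
  have hfcl : IsClassFunction G f := Char.indFun_isClassFunction A _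
  have hfφ : ∀ φ : IrrCharacter G, classInner f (φ : G → ℂ) = (k φ lam : ℂ) - k φ mu := by
    intro φ
    rw [hfdef, Char.frobenius_reciprocity A _ (Char.IsIrrCharacter.isClassFunction φ.2),
      Char.classInner_sub_left, ← Char.classInner_conj_symm, hk, map_natCast,
      ← Char.classInner_conj_symm, hk, map_natCast]
  have hff : classInner f f = 2 := by
    conv_lhs => arg 2; rw [hfdef]
    rw [Char.frobenius_reciprocity' A _ hfcl, Char.classInner_sub_right, hfinner, hfinner,
      hcnt0 mu lam hml, hcnt0 lam mu hlm]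
    nth_rewrite 1 [show cnt lam lam = Nat.card A by
      conv_lhs => arg 2; rw [← hid lam]
      exact hcnt lam hlam1 1]
    rw [show cnt mu mu = Nat.card A by
      conv_lhs => arg 2; rw [← hid mu]
      exact hcnt mu hmu1 1]
    field_simp
    push_cast
    ring
  have hkχlam : k χ lam = 1 := le_antisymm (hk01 χ lam hχm) (Nat.pos_of_ne_zero hlamχ)
  have hkψmu : k ψ mu = 1 := le_antisymm (hk01 ψ mu hψm) (Nat.pos_of_ne_zero hψmu)
  have hfeq : f = (χ : G → ℂ) - (ψ : G → ℂ) := by
    rw [← sub_eq_zero, ← Char.classInner_self_eq_zero]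
    have e1 : classInner f (χ : G → ℂ) = 1 := by rw [hfφ, hkχlam, hmuχ]; simp
    have e2 : classInner f (ψ : G → ℂ) = -1 := by rw [hfφ, hψlam, hkψmu]; simp
    have e3 : classInner (χ : G → ℂ) f = 1 := by rw [← Char.classInner_conj_symm, e1, map_one]
    have e4 : classInner (ψ : G → ℂ) f = -1 := by rw [← Char.classInner_conj_symm, e2, map_neg, map_one]
    have hne : (χ : G → ℂ) ≠ (ψ : G → ℂ) := fun e0 => hψχ (Subtype.ext e0).symm
    simp only [Char.classInner_sub_left, Char.classInner_sub_right, hff, e1, e2, e3, e4,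
      Char.classInner_irr_self χ.2, Char.classInner_irr_self ψ.2,
      Char.classInner_irr_of_ne χ.2 ψ.2 hne, Char.classInner_irr_of_ne ψ.2 χ.2 hne.symm]
    ring
  have horb : ∀ l : IrrCharacter A, k χ l ≠ 0 → ∃ x : N, act x lam = l := by
    intro l hl
    by_contra! hne
    have h1 := hfinner l
    rw [hcnt0 lam l hne, hcnt0 mu l (fun x e0 => hl (by rw [← e0, hactk, hmuχ]))] at h1
    have h2 : classInner (fun z : A => f z) (l : A → ℂ) = (k χ l : ℂ) - k ψ l := by
      rw [show (fun z : A => f z) = (fun z : A => (χ : G → ℂ) z) - fun z : A => (ψ : G → ℂ) z by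
        funext z; rw [hfeq]; rfl, Char.classInner_sub_left, hk, hk]
    rw [h2, huniq l χ ψ hχm hl hψm (Ne.symm hψχ)] at h1
    simp at h1
    exact hl h1
  set orb := Finset.univ.image fun x : N => act x lam with horbdef
  have hdeg : n = orb.card := by
    have h1 : (n : ℂ) = (orb.card : ℂ) := by
      rw [← hn, hχdeg, ← Finset.sum_subset (Finset.subset_univ orb) fun l _ hl => by
        by_contra hne
        obtain ⟨x, hx⟩ := horb l (by exact_mod_cast hne)
        exact hl (Finset.mem_image.2 ⟨x, Finset.mem_univ _, hx⟩)]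
      rw [Finset.sum_congr rfl (g := fun _ => (1 : ℂ)) fun l hl => by
        obtain ⟨x, -, rfl⟩ := Finset.mem_image.1 hl
        rw [hactk, hkχlam, Nat.cast_one]]
      simp
    exact_mod_cast h1
  have hmulcard : orb.card * Nat.card A = Nat.card N := by
    rw [Nat.card_eq_fintype_card (α := N), ← Finset.card_univ,
      Finset.card_eq_sum_card_fiberwise (f := fun x : N => act x lam) (t := orb)
        fun x _ => Finset.mem_image.2 ⟨x, Finset.mem_univ _, rfl⟩,
      Finset.sum_congr rfl (g := fun _ => Nat.card A) fun l hl => by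
        obtain ⟨x, -, rfl⟩ := Finset.mem_image.1 hl
        exact hcnt lam hlam1 x, Finset.sum_const, smul_eq_mul]
  have hdvd : n ∣ Nat.card (cent t) := by
    refine Nat.dvd_of_mul_dvd_mul_right (Nat.card_pos (α := A)) ?_
    rw [hdeg, hmulcard, mul_comm, h.prod]
    exact card_subgroup_dvd_card N
  exact Nat.Coprime.coprime_dvd_left hdvd h.cop.symm

end Cfsg.Agent.CentreFreeThree
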