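import Cfsg.Agent.Lib.CentreFreeThree.Antichain
import Cfsg.Agent.Lib.CentreFreeThree.Endgame

/-!
# Trivial centre and at most three class sizes: solvable or `PSL₂(2^a)` (owner: helper33)
-/

set_option autoImplicit false
set_option linter.style.haveILetI false
set_option linter.unusedSectionVars false

open Subgroup

namespace Cfsg.Agent.CentreFreeThree

open Cfsg.Agent.ClassGraph (sz)
open Cfsg.Agent.ThreeSizes (IsElt mem_cent self_mem mem_cent_symm isElt_of_mem)

universe u

variable {G : Type u} [Group G] [Finite G]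

local notation "cent" x:max => Subgroup.centralizer ({x} : Set _)

theorem solvable_or_psl (hZ : center G = ⊥)
    (h : Nat.card {n : ℕ | 1 < n ∧ ∃ x : G, (Subgroup.centralizer ({x} : Set G)).index = n} ≤ 3) :
    Group.IsSolvable G ∨
      ∃ a : ℕ, 0 < a ∧ Nonempty (G ≃* Matrix.ProjectiveSpecialLinearGroup (Fin 2) (GaloisField 2 a)) := by
  classical
  haveI := Fact.mk Nat.prime_two
  by_cases hmin : ∀ u : G, IsElt 2 u → u ≠ 1 → ∀ w, cent w ≤ cent u → cent w = cent u
  · exact solvable_or_psl_of_minimal hZ hmin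
  push Not at hmin
  obtain ⟨u, hu, hu1, w, hwu, hne⟩ := hmin
  obtain ⟨t, htu, ht⟩ := exists_involution_pow hu hu1
  set N := {n : ℕ | 1 < n ∧ ∃ x : G, (Subgroup.centralizer ({x} : Set G)).index = n} with hN
  have hNf : N.Finite := (Set.finite_range fun x : G => sz x).subset (by rintro n ⟨-, x, rfl⟩; exact ⟨x, rfl⟩)
  have hmem : ∀ g : G, g ≠ 1 → sz g ∈ N := fun g hg => ⟨by
    have h1 := ClassGraph.sz_pos g
    have h2 : sz g ≠ 1 := fun e => hg (eq_one_of_center hZ e)
    omega, g, rfl⟩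
  have ht1 : t ≠ 1 := fun e => by rw [e, orderOf_one] at ht; exact absurd ht (by decide)
  have hw1 : w ≠ 1 := by
    rintro rfl
    refine hu1 ?_
    have htop : cent (1 : G) = ⊤ := eq_top_iff.2 fun g _ => mem_cent.2 (by rw [mul_one, one_mul])
    rw [htop, top_le_iff] at hwu
    exact eq_one_of_center hZ (by rw [sz, hwu, index_top])
  set a := sz t with hadef
  set c := sz w with hcdef
  have hac : a ∣ c := sz_dvd_of_le (hwu.trans (ThreeSizes.cent_le_of_mem_zpowers htu))
  have hlt : a < c := by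
    have h1 : sz u ∣ c := sz_dvd_of_le hwu
    have h2 : sz u ≠ c := fun e => hne (cent_eq_of_sz hwu e.symm)
    have h3 : a ∣ sz u := sz_dvd_of_le (ThreeSizes.cent_le_of_mem_zpowers htu)
    have h4 := Nat.le_of_dvd (ClassGraph.sz_pos w) h1
    have h5 := Nat.le_of_dvd (ClassGraph.sz_pos u) h3
    omega
  -- a third size, prime to `a`
  have hthird : ∀ p : ℕ, p.Prime → p ∣ a → ∃ z : G, z ≠ 1 ∧ ¬ p ∣ sz z := fun p hp hpa => by
    haveI := Fact.mk hp
    obtain ⟨P⟩ : Nonempty (Sylow p G) := inferInstance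
    obtain ⟨z, -, hz1, -, hz⟩ := exists_sylow_central P (hpa.trans (sz_dvd_card t))
    exact ⟨z, hz1, hz⟩
  have haN : a ∈ N := hmem t ht1
  have hcN : c ∈ N := hmem w hw1
  obtain ⟨p, hp, hpa⟩ := Nat.exists_prime_and_dvd (show a ≠ 1 from Nat.ne_of_gt haN.1)
  obtain ⟨y, hy1, hyp⟩ := hthird p hp hpa
  set b := sz y with hbdef
  have hba : b ≠ a := fun e => hyp (e ▸ hpa)
  have hbc : b ≠ c := fun e => hyp (e ▸ hpa.trans hac)
  have hall : ∀ g : G, g ≠ 1 → sz g = a ∨ sz g = b ∨ sz g = c := by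
    intro g hg
    by_contra! hne'
    obtain ⟨hne1, hne2, hne3⟩ := hne'
    have hsub : (({sz g, a, b, c} : Finset ℕ) : Set ℕ) ⊆ N := by
      intro n hn
      simp only [Finset.coe_insert, Finset.coe_singleton, Set.mem_insert_iff, Set.mem_singleton_iff] at hn
      rcases hn with rfl | rfl | rfl | rfl
      exacts [hmem g hg, haN, hmem y hy1, hcN]
    have h1 := Set.ncard_le_ncard hsub hNf
    rw [Set.ncard_coe_finset, ← Nat.card_coe_set_eq] at h1
    rw [Finset.card_insert_of_notMem, Finset.card_insert_of_notMem, Finset.card_insert_of_notMem,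
      Finset.card_singleton] at h1
    · omega
    · simp [hbc]
    · simp [hba.symm, hlt.ne]
    · simp [hne1, hne2, hne3]
  have hcop : a.Coprime b := Nat.coprime_of_dvd fun q hq h1 h2 => by
    obtain ⟨z, hz1, hz⟩ := hthird q hq h1
    rcases hall z hz1 with e | e | e <;> rw [e] at hz
    exacts [hz h1, hz h2, hz (h1.trans hac)]
  have hS : Sizes G a b c := ⟨hZ, haN.1, (hmem y hy1).1, hac, hlt, hcop, hall, ⟨t, rfl⟩, ⟨y, rfl⟩, ⟨w, rfl⟩⟩
  left
  by_cases hdiv : b ∣ c
  · exact hS.solvable_of_prod hdiv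
  rcases hS.free_case hdiv ht rfl with hs | ⟨A, hA⟩
  · exact hs
  · exact solvable_of_cc hS hdiv hA rfl

end Cfsg.Agent.CentreFreeThree
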