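import Cfsg.Agent.EqLemmas
import Cfsg.Agent.S4037
import Cfsg.Agent.Lib.ThreeSizes.Basic
import Cfsg.Agent.Lib.ClassIndex.TwoLargest
import Cfsg.Agent.Lib.ItoSizes.Tools
import Cfsg.Agent.Lib.Solvable.Basic

/-!
# The solvable radical, as needed for groups with three class sizes (owner: helper33)

* `rad`, `rad_isSolvable`, `le_rad`, `mem_rad_of_sz`, `mem_rad_of_conj_commute`
* `solvable_of_elts`: all but two primes have their elements in a solvable normal subgroup
* `rad_le_of_normal`: the radical of a normal subgroup lies in the radical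
-/

set_option autoImplicit false
set_option linter.style.haveILetI false
set_option linter.unusedSectionVars false

open Subgroup

namespace Cfsg.Agent.CentreFreeThree

open Cfsg.Agent.ClassGraph (sz cls)
open Cfsg.Agent.ThreeSizes (IsElt)

variable {G : Type*} [Group G] [Finite G]

local notation "cent" x:max => Subgroup.centralizer ({x} : Set _)

/-- the solvable radical -/
abbrev rad (G : Type*) [Group G] : Subgroup G := Cfsg.solvableRadical G

omit [Finite G] in
theorem le_rad {N : Subgroup G} (hn : N.Normal) (hs : Group.IsSolvable N) : N ≤ rad G :=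
  le_sSup ⟨hn, hs⟩

theorem exists_top_solvable (G : Type*) [Group G] [Finite G] : ∃ M : Subgroup G, M.Normal ∧
    Group.IsSolvable M ∧ ∀ N : Subgroup G, N.Normal → Group.IsSolvable N → N ≤ M := by
  obtain ⟨M, ⟨hMn, hMs⟩, hmax⟩ := wellFounded_gt.has_min {N : Subgroup G | N.Normal ∧ Group.IsSolvable N}
    ⟨⊥, inferInstance, inferInstance⟩
  refine ⟨M, hMn, hMs, fun N hN hNs => ?_⟩
  haveI := hMs; haveI := hNs; haveI := hMn; haveI := hN
  have h1 : M ≤ N ⊔ M := le_sup_right
  have h2 : M = N ⊔ M := eq_of_le_of_not_lt h1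
    (hmax (N ⊔ M) ⟨inferInstance, Solvable.isSolvable_sup N M⟩)
  exact h2 ▸ le_sup_left

theorem rad_spec : (rad G).Normal ∧ Group.IsSolvable (rad G) := by
  obtain ⟨M, h1, h2, h3⟩ := exists_top_solvable G
  have e : rad G = M := le_antisymm (sSup_le fun N hN => h3 N hN.1 hN.2) (le_rad h1 h2)
  rw [e]; exact ⟨h1, h2⟩

instance rad_normal : (rad G).Normal := rad_spec.1

instance rad_isSolvable : Group.IsSolvable (rad G) := rad_spec.2

theorem mem_rad_of_sz {x : G} {p k : ℕ} (hp : p.Prime) (h : sz x = p ^ k) : x ∈ rad G := by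
  refine le_rad (N := normalClosure ({x} : Set G)) Subgroup.normalClosure_normal ?_
    (Subgroup.subset_normalClosure (Set.mem_singleton x))
  refine S4037.result x hp k ?_
  rw [← Nat.card_coe_set_eq, ClassIndex.natCard_carrier_eq_index]
  exact h

omit [Finite G] in
theorem normalClosure_comm {g : G} (h : ∀ c : G, Commute g (c * g * c⁻¹)) :
    IsMulCommutative (normalClosure ({g} : Set G)) := by
  have key : ∀ a b : G, Commute (a * g * a⁻¹) (b * g * b⁻¹) := fun a b => by
    have h1 := (h (a⁻¹ * b)).eq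
    show a * g * a⁻¹ * (b * g * b⁻¹) = b * g * b⁻¹ * (a * g * a⁻¹)
    calc a * g * a⁻¹ * (b * g * b⁻¹) = a * (g * (a⁻¹ * b * g * (a⁻¹ * b)⁻¹)) * a⁻¹ := by group
      _ = a * (a⁻¹ * b * g * (a⁻¹ * b)⁻¹ * g) * a⁻¹ := by rw [h1]
      _ = _ := by group
  refine Subgroup.isMulCommutative_closure ?_
  intro x hx y hy
  obtain ⟨_, h1, h2⟩ := Group.mem_conjugatesOfSet_iff.1 hx
  obtain ⟨_, h3, h4⟩ := Group.mem_conjugatesOfSet_iff.1 hy
  rw [Set.mem_singleton_iff] at h1 h3
  subst h1 h3
  obtain ⟨a, rfl⟩ := isConj_iff.1 h2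
  obtain ⟨b, rfl⟩ := isConj_iff.1 h4
  exact key a b

omit [Finite G] in
theorem mem_rad_of_conj_commute {g : G} (h : ∀ c : G, Commute g (c * g * c⁻¹)) : g ∈ rad G := by
  haveI := normalClosure_comm h
  exact le_rad (N := normalClosure ({g} : Set G)) normalClosure_normal
    (Group.isSolvable_of_comm fun a b => IsMulCommutative.is_comm.comm a b)
    (subset_normalClosure (Set.mem_singleton g))

omit [Finite G] in
theorem mem_rad_of_center {z : G} (hz : z ∈ center G) : z ∈ rad G :=
  mem_rad_of_conj_commute fun c => by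
    rw [mem_center_iff.1 hz c, mul_inv_cancel_right]

theorem mem_rad_of_conj {g v : G} (h : g * v * g⁻¹ ∈ rad G) : v ∈ rad G := by
  have := (rad_normal (G := G)).conj_mem _ h g⁻¹
  simpa [mul_assoc] using this

theorem solvable_of_normal {N : Subgroup G} [N.Normal] (hN : Group.IsSolvable N)
    (hQ : Group.IsSolvable (G ⧸ N)) : Group.IsSolvable G :=
  Group.isSolvable_of_ker_le_range N.subtype (QuotientGroup.mk' N) (by simp)

theorem solvable_of_sup {H N : Subgroup G} [N.Normal] (hH : Group.IsSolvable H)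
    (hN : Group.IsSolvable N) (h : H ⊔ N = ⊤) : Group.IsSolvable G := by
  haveI := Solvable.isSolvable_sup H N
  rw [h] at this
  exact Group.isSolvable_of_surjective (show Function.Surjective (Subgroup.topEquiv (G := G)).toMonoidHom from
    Subgroup.topEquiv.surjective)

theorem solvable_of_elts {p q : ℕ} (hp : p.Prime) (hq : q.Prime)
    (h : ∀ l : ℕ, l.Prime → l ≠ p → l ≠ q → ∀ v : G, IsElt l v → v ∈ rad G) : Group.IsSolvable G := by
  refine solvable_of_normal (N := rad G) inferInstance
    (ItoSizes.isSolvable_of_two_primes hp hq fun l hl hd => ?_)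
  by_contra! hne
  haveI := Fact.mk hl
  obtain ⟨x, hx⟩ := exists_prime_orderOf_dvd_card' (G := G ⧸ rad G) l hd
  obtain ⟨g, rfl⟩ := QuotientGroup.mk'_surjective (rad G) x
  obtain ⟨u, w, hg, hc, -, -, hu, hw⟩ := ThreeSizes.exists_parts hl g
  have hu' : QuotientGroup.mk' (rad G) u = 1 := (QuotientGroup.eq_one_iff u).2 (h l hl hne.1 hne.2 u hu)
  rw [hg, map_mul, hu', one_mul] at hx
  exact hw (hx ▸ orderOf_map_dvd (QuotientGroup.mk' (rad G)) w)

theorem solvable_of_elts_one {p : ℕ} (hp : p.Prime)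
    (h : ∀ l : ℕ, l.Prime → l ≠ p → ∀ v : G, IsElt l v → v ∈ rad G) : Group.IsSolvable G :=
  solvable_of_elts hp hp fun l hl h1 _ => h l hl h1

theorem rad_map_le (M : Subgroup G) [M.Normal] : (rad M).map M.subtype ≤ rad G := by
  refine le_rad ?_ (Solvable.isSolvable_map M.subtype (rad M))
  refine ⟨fun x hx g => ?_⟩
  obtain ⟨y, hy, rfl⟩ := hx
  let φ : M ≃* M := MulAut.conjNormal g
  have hφ : (rad M).map φ.toMonoidHom ≤ rad M :=
    le_rad (Subgroup.Normal.map inferInstance _ φ.surjective) (Solvable.isSolvable_map _ _)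
  exact ⟨φ y, hφ ⟨y, hy, rfl⟩, MulAut.conjNormal_apply g y⟩

theorem rad_quotient : rad (G ⧸ rad G) = ⊥ := by
  set f := QuotientGroup.mk' (rad G) with hf
  set K := (rad (G ⧸ rad G)).comap f with hK
  have hsK : Group.IsSolvable K := by
    haveI : Group.IsSolvable (rad (G ⧸ rad G)) := inferInstance
    refine Group.isSolvable_of_ker_le_range (Subgroup.inclusion (show rad G ≤ K from
      (QuotientGroup.ker_mk' (rad G)).ge.trans (Subgroup.comap_mono bot_le)))
      (f.subgroupComap (rad (G ⧸ rad G))) ?_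
    intro x hx
    have h1 : (x : G) ∈ rad G := (QuotientGroup.eq_one_iff _).1 (congrArg Subtype.val hx)
    exact ⟨⟨x, h1⟩, Subtype.ext rfl⟩
  have hle : K ≤ rad G := le_rad inferInstance hsK
  rw [eq_bot_iff]
  intro x hx
  obtain ⟨g, rfl⟩ := QuotientGroup.mk'_surjective (rad G) x
  exact (QuotientGroup.eq_one_iff g).2 (hle hx)

end Cfsg.Agent.CentreFreeThree
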