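import Cfsg.Agent.Lib.CentreFreeThree.Basic
import Cfsg.Agent.S4033

/-!
# The centraliser of a primary element of class size `a`, two multiples `a`, `a d` of `a`
(owner: helper33)

In `H = C(x)` the noncentral elements of order prime to `q` have class size `d`, so S4033 applies.
-/

set_option autoImplicit false
set_option linter.style.haveILetI false
set_option linter.unusedSectionVars false

open Subgroup

namespace Cfsg.Agent.CentreFreeThree

open Cfsg.Agent.ClassGraph (sz cls)
open Cfsg.Agent.ThreeSizes (IsElt mem_cent self_mem mem_cent_symm isElt_of_mem)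

variable {G : Type*} [Group G] [Finite G]

local notation "cent" x:max => Subgroup.centralizer ({x} : Set _)

/-- all elements of order prime to `q` are central in `H` -/
def AllCentral (H : Subgroup G) (q : ℕ) : Prop := ∀ v ∈ H, ¬ q ∣ orderOf v → H ≤ cent v

/-- an abelian `q`-complement -/
def AbelianCompl (H : Subgroup G) (q d : ℕ) : Prop :=
  ∃ W : Subgroup G, W ≤ H ∧ IsMulCommutative W ∧ ¬ q ∣ Nat.card W ∧ (∃ k, W.relIndex H = q ^ k) ∧
    ∃ j, d = q ^ j

/-- all primes but `q` and `r` are central -/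
def TwoPrimeCore (H : Subgroup G) (q d : ℕ) : Prop :=
  ∃ r : ℕ, r.Prime ∧ r ≠ q ∧
    (∀ l : ℕ, l.Prime → l ≠ q → l ≠ r → ∀ v ∈ H, IsElt l v → H ≤ cent v) ∧
    ∀ l : ℕ, l.Prime → l ∣ d → l = q ∨ l = r

/-- what we know about the centraliser -/
structure TriOut (H : Subgroup G) (q d : ℕ) : Prop where
  solv : Group.IsSolvable H
  cases : AllCentral H q ∨ AbelianCompl H q d ∨ TwoPrimeCore H q d
  norm : ∀ r : ℕ, r.Prime → r ≠ q → ∃ R : Subgroup G, R ≤ H ∧ IsPGroup r R ∧ ¬ r ∣ R.relIndex H ∧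
    ∃ k, (normalizer (R : Set G)).relIndex H = q ^ k

theorem cent_subtype {H : Subgroup G} (v : H) :
    (Subgroup.centralizer ({v} : Set H)) = (cent (v : G)).subgroupOf H := by
  ext y
  rw [mem_subgroupOf, mem_cent, mem_cent, Subtype.ext_iff]
  rfl

theorem sz_subtype {H : Subgroup G} (v : H) : sz v = (cent (v : G)).relIndex H := by
  rw [sz, cent_subtype]; rfl

theorem norm_transfer {H : Subgroup G} {r q : ℕ} [Fact r.Prime] (hq : q.Prime) (P : Sylow r H)
    (N : Subgroup H) (hN : N ≤ normalizer ((P : Subgroup H) : Set H)) {k : ℕ} (hk : N.index ∣ q ^ k) :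
    ∃ R : Subgroup G, R ≤ H ∧ IsPGroup r R ∧ ¬ r ∣ R.relIndex H ∧
      ∃ k, (normalizer (R : Set G)).relIndex H = q ^ k := by
  refine ⟨(P : Subgroup H).map H.subtype, map_subtype_le _, P.2.map _, ?_, ?_⟩
  · rw [relIndex, subgroupOf, comap_map_eq_self_of_injective H.subtype_injective]
    exact P.not_dvd_index
  · have h1 : N ≤ (normalizer (((P : Subgroup H).map H.subtype : Subgroup G) : Set G)).subgroupOf H := by
      intro n hn
      exact le_normalizer_map H.subtype ⟨n, hN hn, rfl⟩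
    obtain ⟨j, -, hj⟩ := (Nat.dvd_prime_pow hq).1 ((index_dvd_of_le h1).trans hk)
    exact ⟨j, hj⟩

variable {x : G} {q a d : ℕ}

theorem relIndex_cases (hq : q.Prime) (hx : IsElt q x) (hxa : sz x = a) (ha : 1 < a)
    (hm : ∀ z : G, a ∣ sz z → sz z = a ∨ sz z = a * d) {v : G} (hv : v ∈ cent x)
    (hvq : ¬ q ∣ orderOf v) : (cent v).relIndex (cent x) = 1 ∨ (cent v).relIndex (cent x) = d := by
  have hco : (orderOf x).Coprime (orderOf v) := hx.coprime_order hq hvq
  have hcm : cent (x * v) = cent x ⊓ cent v := ThreeSizes.cent_mul (mem_cent.1 hv).symm hco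
  have he : (cent v).relIndex (cent x) * a = sz (x * v) := by
    rw [← hxa, sz, sz, hcm, ← Subgroup.inf_relIndex_left (cent x) (cent v)]
    exact relIndex_mul_index inf_le_left
  rcases hm (x * v) ⟨_, by rw [← he, mul_comm]⟩ with e | e
  · left; rw [e] at he; exact (Nat.mul_eq_right (by omega)).1 he
  · right; rw [e, mul_comm a d] at he; exact Nat.eq_of_mul_eq_mul_right (by omega) he

theorem tri (hq : q.Prime) (hx : IsElt q x) (hxa : sz x = a) (ha : 1 < a) (hd : 1 < d)
    (hm : ∀ z : G, a ∣ sz z → sz z = a ∨ sz z = a * d) : TriOut (cent x) q d := by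
  haveI := Fact.mk hq
  set H := cent x with hH
  have hrel : ∀ v : H, ¬ q ∣ orderOf v → sz v = 1 ∨ sz v = d := fun v hv => by
    rw [sz_subtype]
    exact relIndex_cases hq hx hxa ha hm v.2 (by rwa [Subgroup.orderOf_coe])
  -- central elements
  have hcen : ∀ v : H, v ∈ center H → H ≤ cent (v : G) := fun v hv g hg =>
    mem_cent.2 (congrArg Subtype.val (mem_center_iff.1 hv ⟨g, hg⟩))
  have hsylc : ∀ (r : ℕ) (hr : r.Prime), (∀ v : H, IsElt r v → v ∈ center H) →
      ∃ R : Subgroup G, R ≤ H ∧ IsPGroup r R ∧ ¬ r ∣ R.relIndex H ∧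
        ∃ k, (normalizer (R : Set G)).relIndex H = q ^ k := fun r hr hc => by
    haveI := Fact.mk hr
    obtain ⟨P⟩ : Nonempty (Sylow r H) := inferInstance
    refine norm_transfer hq P ⊤ (fun g _ => ?_) (k := 0) (by simp)
    rw [mem_normalizer_iff]
    intro s
    constructor
    · intro hs
      rw [mem_center_iff.1 (hc s (isElt_of_mem P.2 hs)) g, mul_inv_cancel_right]
      exact hs
    · intro hs
      have h1 := mem_center_iff.1 (hc _ (isElt_of_mem P.2 hs)) g⁻¹
      have h2 : s = g * s * g⁻¹ := by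
        calc s = g⁻¹ * (g * s * g⁻¹) * g := by group
          _ = g * s * g⁻¹ := by rw [h1, inv_mul_cancel_right]
      rwa [h2]
  by_cases hall : ∀ v : H, ¬ q ∣ orderOf v → v ∈ center H
  · -- everything of order prime to `q` is central
    have hreg : ∀ {l : ℕ}, l.Prime → l ≠ q → ∀ v : H, IsElt l v → v ∈ center H :=
      fun hl hne v hv => hall v (hv.not_dvd hl hq hne)
    refine ⟨solvable_of_elts_one hq fun l hl hne v hv => mem_rad_of_center (hreg hl hne v hv),
      Or.inl fun v hv hvq => hcen ⟨v, hv⟩ (hall ⟨v, hv⟩ (by rwa [Subgroup.orderOf_mk])), ?_⟩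
    exact fun r hr hne => hsylc r hr (hreg hr hne)
  push Not at hall
  obtain ⟨v₀, hv₀q, hv₀⟩ := hall
  have h2 : Set.ncard (Set.range fun y : {y : H // (orderOf y).Coprime q} =>
      (ConjClasses.mk (y : H)).carrier.ncard) = 2 := by
    have hcar : ∀ y : H, (ConjClasses.mk y).carrier.ncard = sz y := fun y => by
      rw [← Nat.card_coe_set_eq, ClassIndex.natCard_carrier_eq_index]; rfl
    have hv₀d : sz v₀ = d := (hrel v₀ hv₀q).resolve_left fun e => hv₀ (TwoLargest.sz_eq_one_iff.1 e)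
    have hset : Set.range (fun y : {y : H // (orderOf y).Coprime q} =>
        (ConjClasses.mk (y : H)).carrier.ncard) = {1, d} := by
      ext n
      simp only [Set.mem_range, Set.mem_insert_iff, Set.mem_singleton_iff, hcar]
      constructor
      · rintro ⟨⟨y, hy⟩, rfl⟩
        exact hrel y (hq.coprime_iff_not_dvd.1 hy.symm)
      · rintro (rfl | rfl)
        · exact ⟨⟨1, by simp⟩, sz_one⟩
        · exact ⟨⟨v₀, (hq.coprime_iff_not_dvd.2 hv₀q).symm⟩, hv₀d⟩
    rw [hset]
    exact Set.ncard_pair (by omega)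
  rcases S4033.result hq h2 with ⟨W, hWc, hWq, k, hWk⟩ | ⟨r, hrf, P, Q, A, hrq, hA, hPQ, hPQn, hinf, hsup⟩
  · -- an abelian complement
    have hWreg : ∀ w ∈ W, ¬ q ∣ orderOf w := fun w hw h => hWq (h.trans (orderOf_dvd_natCard W hw))
    have hWle : ∀ w ∈ W, W ≤ cent w := fun w hw y hy =>
      mem_cent.2 (congrArg Subtype.val (hWc.is_comm.comm ⟨y, hy⟩ ⟨w, hw⟩))
    have hWrad : ∀ w ∈ W, w ∈ rad H := fun w hw => by
      obtain ⟨j, -, hj⟩ := (Nat.dvd_prime_pow hq).1 (hWk ▸ index_dvd_of_le (hWle w hw))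
      exact mem_rad_of_sz hq hj
    have hj : ∃ j, d = q ^ j := by
      by_cases hWz : W ≤ center H
      · exfalso
        haveI : W.Normal := ⟨fun w hw g => by
          rwa [mem_center_iff.1 (hWz hw) g, mul_inv_cancel_right]⟩
        refine hv₀ (hWz (Coprime.mem_of_pow_mem (n := q ^ k) ?_ (hWk ▸ pow_index_mem W v₀)))
        exact ((hq.coprime_iff_not_dvd.2 hv₀q).pow_left k).symm
      obtain ⟨w, hw, hwz⟩ := SetLike.not_le_iff_exists.1 hWz
      have hwd : sz w = d := (hrel w (hWreg w hw)).resolve_left fun e => hwz (TwoLargest.sz_eq_one_iff.1 e)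
      obtain ⟨j, -, hj⟩ := (Nat.dvd_prime_pow hq).1 (hWk ▸ index_dvd_of_le (hWle w hw))
      exact ⟨j, hwd ▸ hj⟩
    have hnd : ∀ {l : ℕ}, l.Prime → l ≠ q → ¬ l ∣ W.index := fun hl hne h =>
      hne ((Nat.prime_dvd_prime_iff_eq hl hq).1 (hl.dvd_of_dvd_pow (hWk ▸ h)))
    refine ⟨solvable_of_elts_one hq fun l hl hne v hv => ?_, Or.inr (Or.inl ?_), fun r hr hne => ?_⟩
    · obtain ⟨g, hg⟩ := exists_conj_mem_of_index hl (hnd hl hne) hv
      have := (rad_normal (G := H)).conj_mem _ (hWrad _ hg) g⁻¹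
      simpa [mul_assoc] using this
    · refine ⟨W.map H.subtype, map_subtype_le _, ?_, ?_, ⟨k, ?_⟩, hj⟩
      · exact Subgroup.map_isMulCommutative W H.subtype
      · rwa [Subgroup.card_map_of_injective H.subtype_injective]
      · rw [relIndex, subgroupOf, comap_map_eq_self_of_injective H.subtype_injective, hWk]
    · haveI := Fact.mk hr
      obtain ⟨P, hP⟩ := sylow_le_of_index (hnd hr hne)
      refine norm_transfer hq P W (fun g hg => ?_) (k := k) (hWk ▸ dvd_rfl)
      rw [mem_normalizer_iff]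
      have key : ∀ s ∈ W, g * s * g⁻¹ = s := fun s hs => by
        rw [mem_cent.1 (hWle s hs hg), mul_inv_cancel_right]
      intro s
      refine ⟨fun hs => by rwa [key s (hP hs)], fun hs => ?_⟩
      have hs2 : g⁻¹ * (g * s * g⁻¹) * g ∈ W := W.mul_mem (W.mul_mem (W.inv_mem hg) (hP hs)) hg
      rw [show g⁻¹ * (g * s * g⁻¹) * g = s by group] at hs2
      rwa [key s hs2] at hs
  · -- `P Q` times a central subgroup
    have hr := hrf.out
    obtain ⟨i, hi⟩ := IsPGroup.iff_card.1 P.2
    obtain ⟨j, hj⟩ := IsPGroup.iff_card.1 Q.2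
    haveI := hPQn
    have hAidx : A.index = Nat.card P * Nat.card Q := by
      have h1 := PLocal.card_sup_mul_card_inf (H := (P : Subgroup H) ⊔ Q) (K := A)
        (by rw [normalizer_eq_top]; exact le_top)
      rw [hsup, hinf, Subgroup.card_bot, Subgroup.card_top, mul_one, hPQ,
        ← A.index_mul_card] at h1
      exact Nat.eq_of_mul_eq_mul_right Nat.card_pos h1
    have hother : ∀ {l : ℕ}, l.Prime → l ≠ q → l ≠ r → ∀ v : H, IsElt l v → v ∈ center H := by
      intro l hl h1 h2 v hv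
      obtain ⟨u, hu, w, hw, huw⟩ := mem_sup_of_normal_left.1 (hsup ▸ mem_top v)
      have hc : Commute u w := mem_center_iff.1 (hA hw) u
      have hpow : v ^ (Nat.card P * Nat.card Q) ∈ A := by
        rw [← huw, hc.mul_pow, ← hPQ,
          orderOf_dvd_iff_pow_eq_one.1 (orderOf_dvd_natCard _ hu), one_mul]
        exact pow_mem hw _
      refine hA (Coprime.mem_of_pow_mem ?_ hpow)
      refine hv.coprime_order hl fun h => ?_
      rw [hi, hj] at h
      rcases hl.dvd_mul.1 h with h | h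
      · exact h1 ((Nat.prime_dvd_prime_iff_eq hl hq).1 (hl.dvd_of_dvd_pow h))
      · exact h2 ((Nat.prime_dvd_prime_iff_eq hl hr).1 (hl.dvd_of_dvd_pow h))
    refine ⟨solvable_of_elts hq hr fun l hl h1 h2 v hv => mem_rad_of_center (hother hl h1 h2 v hv),
      Or.inr (Or.inr ⟨r, hr, hrq, fun l hl h1 h2 v hv hvl => hcen ⟨v, hv⟩ (hother hl h1 h2 _ ?_),
        fun l hl hld => ?_⟩), fun l hl hne => ?_⟩
    · obtain ⟨e, he⟩ := hvl
      exact ⟨e, by rw [Subgroup.orderOf_mk, he]⟩
    · have hv₀d : sz v₀ = d := (hrel v₀ hv₀q).resolve_left fun e => hv₀ (TwoLargest.sz_eq_one_iff.1 e)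
      have h1 : d ∣ A.index := hv₀d ▸ index_dvd_of_le fun y hy =>
        mem_cent.2 (mem_center_iff.1 (hA hy) v₀).symm
      rw [hAidx, hi, hj] at h1
      rcases hl.dvd_mul.1 (hld.trans h1) with h | h
      · exact Or.inl ((Nat.prime_dvd_prime_iff_eq hl hq).1 (hl.dvd_of_dvd_pow h))
      · exact Or.inr ((Nat.prime_dvd_prime_iff_eq hl hr).1 (hl.dvd_of_dvd_pow h))
    · rcases eq_or_ne l r with rfl | hlr
      · refine norm_transfer hq Q ((Q : Subgroup H) ⊔ A) (sup_le le_normalizer ?_) (k := i) ?_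
        · exact le_trans (fun y hy => mem_centralizer_iff.2 fun s _ => mem_center_iff.1 (hA hy) s)
            (centralizer_le_normalizer _)
        · have h1 : ((Q : Subgroup H) ⊔ A).index ∣ A.index := index_dvd_of_le le_sup_right
          have h2 : ((Q : Subgroup H) ⊔ A).index ∣ (Q : Subgroup H).index := index_dvd_of_le le_sup_left
          rw [hAidx, hi, hj] at h1
          refine Nat.Coprime.dvd_of_dvd_mul_right ?_ h1
          refine Nat.Coprime.pow_right _ ?_
          exact ((hl.coprime_iff_not_dvd).2 fun h => Q.not_dvd_index (h.trans h2)).symm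
      · exact hsylc l hl (hother hl hne hlr)

end Cfsg.Agent.CentreFreeThree
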